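import Groth.Agent.Lib.CohDelta.IdealMul.Main
import Groth.Agent.Lib.CohDelta.Filtration
import Groth.Agent.H52.DevSummand

/-!
# Dévissage through direct sums of ideals

`exists_mono_both`: a coherent module supported on an irreducible closed set and killed by `m` at
the generic point `y` agrees with a direct sum of copies of any rank one module there, up to
modules vanishing at `y`, by monomorphisms defined on some `I^n`.
-/

set_option autoImplicit false
set_option linter.style.haveILetI false
universe u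

open CategoryTheory CategoryTheory.Limits AlgebraicGeometry Opposite TopologicalSpace

namespace Groth.Agent.Lib.CohDelta.IdealMul.DevExt

open Groth.Agent.Lib Groth.Agent.Lib.Modules.StalkModule Groth.Agent.Lib.Devissage.Basic Sec Main

variable {X : Scheme.{u}}

theorem exists_equiv_pi {R M N : Type u} [CommRing R] [IsLocalRing R] [AddCommGroup M] [Module R M]
    [Module.Finite R M] [Nontrivial M] [AddCommGroup N] [Module R N]
    (hM : ∀ a : R, ¬ IsUnit a → ∀ m : M, a • m = 0) (hN : Module.length R N = 1) :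
    ∃ d, 1 ≤ d ∧ Nonempty (M ≃ₗ[R] (Fin d → N)) := by
  let m := IsLocalRing.maximalIdeal R
  letI : Field (R ⧸ m) := Ideal.Quotient.field m
  have hMm : Module.IsTorsionBySet R M m := fun v a => hM a.1 a.2 v
  letI := hMm.module
  haveI : IsScalarTower R (R ⧸ m) M := hMm.isScalarTower
  haveI : Module.Finite (R ⧸ m) M := Module.Finite.of_restrictScalars_finite R _ _
  haveI : IsSimpleModule R N := Module.length_eq_one_iff.mp hN
  obtain ⟨J, hJ, ⟨e⟩⟩ := isSimpleModule_iff_quot_maximal.mp (inferInstance : IsSimpleModule R N)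
  obtain rfl : J = m := IsLocalRing.eq_maximalIdeal hJ
  refine ⟨Module.finrank (R ⧸ m) M, Module.finrank_pos, ⟨?_⟩⟩
  exact ((Module.finBasis (R ⧸ m) M).equivFun.restrictScalars R).trans
    (LinearEquiv.piCongrRight fun _ => e.symm)

attribute [local instance] HasFiniteBiproducts.of_hasFiniteProducts

variable {d : ℕ} (A : Fin d → X.Modules)

theorem sum_stalk {M N : X.Modules} (s : Finset (Fin d)) (f : Fin d → (M ⟶ N)) (x : X)
    (v : M.presheaf.stalk x) :
    stalkMapₗ (∑ k ∈ s, f k) x v = ∑ k ∈ s, stalkMapₗ (f k) x v := by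
  classical
  induction s using Finset.induction with
  | empty => simp [stalkMapₗ_zero]
  | insert a t ha ih => rw [Finset.sum_insert ha, Finset.sum_insert ha, stalkMapₗ_add, LinearMap.add_apply, ih]

theorem sum_sections {M N : X.Modules} (s : Finset (Fin d)) (f : Fin d → (M ⟶ N)) (W : X.Opens)
    (v : Γ(M, W)) : appL (∑ k ∈ s, f k) W v = ∑ k ∈ s, appL (f k) W v := by
  classical
  induction s using Finset.induction with
  | empty => simp only [Finset.sum_empty]; rfl
  | insert a t ha ih => rw [Finset.sum_insert ha, Finset.sum_insert ha, ← ih]; rfl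

/-- Stalks of a finite biproduct. -/
theorem exists_stalk_biproduct (x : X) :
    Function.Bijective (fun (v : (⨁ A).presheaf.stalk x) k => stalkMapₗ (biproduct.π A k) x v) := by
  classical
  refine ⟨fun v w h => ?_, fun r => ?_⟩
  · have key : ∀ v : (⨁ A).presheaf.stalk x,
        v = ∑ k, stalkMapₗ (biproduct.ι A k) x (stalkMapₗ (biproduct.π A k) x v) := fun v => by
      conv_lhs => rw [← LinearMap.id_apply (R := X.presheaf.stalk x) v, ← stalkMapₗ_id,
        ← biproduct.total, sum_stalk]
      simp only [stalkMapₗ_comp, LinearMap.comp_apply]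
    rw [key v, key w]
    exact Finset.sum_congr rfl fun k _ => congrArg _ (congrFun h k)
  · refine ⟨∑ k, stalkMapₗ (biproduct.ι A k) x (r k), funext fun j => ?_⟩
    show stalkMapₗ (biproduct.π A j) x (∑ k, stalkMapₗ (biproduct.ι A k) x (r k)) = r j
    rw [map_sum, Finset.sum_eq_single j]
    · rw [← LinearMap.comp_apply, ← stalkMapₗ_comp, biproduct.ι_π_self, stalkMapₗ_id]; rfl
    · intro k _ hk
      rw [← LinearMap.comp_apply, ← stalkMapₗ_comp, biproduct.ι_π_ne A hk, stalkMapₗ_zero]; rfl
    · simp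

theorem isCoh_biproduct (h : ∀ k, Coh.IsCoh (A k)) : Coh.IsCoh (⨁ A) := by
  classical
  haveI : (⨁ A).IsQuasicoherent := by
    haveI := fun k => (h k).1
    exact QCoh.Closure.isQCoh_of_isColimit (biproduct.isColimit A) fun j => (h j.as).1
  refine CohBasics.Closure.isCoh_of_finite_sections fun W hW => ?_
  haveI := fun k => CohBasics.Closure.finite_sections (h k) hW
  let φ : ((k : Fin d) → Γ(A k, W)) →ₗ[Γ(X, W)] Γ(⨁ A, W) :=
    ∑ k, (appL (biproduct.ι A k) W).comp (LinearMap.proj k)
  refine Module.Finite.of_surjective φ fun v => ⟨fun k => appL (biproduct.π A k) W v, ?_⟩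
  have e := sum_sections Finset.univ (fun k => biproduct.π A k ≫ biproduct.ι A k) W v
  rw [biproduct.total] at e
  simp only [φ, LinearMap.sum_apply, LinearMap.comp_apply, LinearMap.proj_apply]
  exact e.symm

theorem support_biproduct_subset {T : Set X} (h : ∀ k, CohB1.support (A k) ⊆ T) :
    CohB1.support (⨁ A) ⊆ T := fun x hx => by
  by_contra hT
  refine hx ⟨fun v w => (exists_stalk_biproduct A x).1 (funext fun k => ?_)⟩
  exact @Subsingleton.elim _ (Modules.Support.not_mem_support_iff.mp fun h' => hT (h k h')) _ _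

/-- A closed subscheme's module pushed forward is killed by `m` at the generic point. -/
theorem killed_genericPoint {Z : Scheme.{u}} (i : Z ⟶ X) [IsClosedImmersion i] [IsIntegral Z]
    (H : Z.Modules) (a : X.presheaf.stalk (i (genericPoint Z))) (ha : ¬ IsUnit a)
    (v : ((Coh.push i).obj H).presheaf.stalk (i (genericPoint Z))) : a • v = 0 := by
  have hf : IsField (Z.presheaf.stalk (genericPoint Z)) :=
    Field.toIsField Z.functionField
  refine (Cyc.SheafLen.pushStalk_bijective i H _).1 ?_
  rw [Cyc.SheafLen.pushStalk_smul, map_zero]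
  have h0 : i.stalkMap (genericPoint Z) a = 0 := by
    by_contra hne
    letI := hf.toField
    exact ha ((isUnit_map_iff (i.stalkMap (genericPoint Z)).hom a).mp (isUnit_iff_ne_zero.mpr hne))
  rw [h0, zero_smul]

/-- The direct image of a nonzero ideal has stalk of length one at the generic point. -/
theorem length_push_ideal {Z : Scheme.{u}} (i : Z ⟶ X) [IsClosedImmersion i] [IsIntegral Z]
    (I : Z.Modules) (ι : I ⟶ Coh.structureModule Z) [Mono ι] (hI : ¬ IsZero I) :
    Module.length (X.presheaf.stalk (i (genericPoint Z)))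
      (((Coh.push i).obj I).presheaf.stalk (i (genericPoint Z))) = 1 := by
  rw [Cyc.SheafLen.length_push_stalk]
  have hf : IsField (Z.presheaf.stalk (genericPoint Z)) := Field.toIsField Z.functionField
  obtain ⟨e⟩ := Cyc.SheafLen.exists_unit_stalk_equiv (genericPoint Z)
  have hO : Module.length (Z.presheaf.stalk (genericPoint Z))
      ((Coh.structureModule Z).presheaf.stalk (genericPoint Z)) = 1 := by
    rw [e.length_eq, Module.length_eq_one_iff]
    letI := hf.toField
    infer_instance
  have hinj := (mono_iff_stalkMapₗ_injective ι).mp inferInstance (genericPoint Z)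
  refine le_antisymm (hO ▸ Module.length_le_of_injective _ hinj) (Order.one_le_iff_pos.mpr ?_)
  refine Module.length_pos_iff.mpr (not_subsingleton_iff_nontrivial.mp fun hs => hI ?_)
  haveI := hs
  let b := cokernel.π ((Coh.push (𝟙 Z)).map ι)
  haveI : Mono b := Filtration.mono_of_stalk (𝟙 Z) b (by
    refine (injective_iff_map_eq_zero _).mpr fun v hv => ?_
    obtain ⟨w, rfl⟩ := H52.DevSummand.eq_stalk_kernel b v hv
    haveI : Subsingleton ((Abelian.image ((Coh.push (𝟙 Z)).map ι)).presheaf.stalk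
        ((𝟙 Z : Z ⟶ Z) (genericPoint Z))) := by
      haveI : Subsingleton (((Coh.push (𝟙 Z)).obj I).presheaf.stalk ((𝟙 Z : Z ⟶ Z) (genericPoint Z))) :=
        (Cyc.SheafLen.pushStalk_bijective (𝟙 Z) I (genericPoint Z)).1.subsingleton
      exact ((epi_iff_stalkMapₗ_surjective (Abelian.factorThruImage ((Coh.push (𝟙 Z)).map ι))).mp
          inferInstance _).subsingleton
    exact (congrArg _ (Subsingleton.elim (α := (Abelian.image ((Coh.push (𝟙 Z)).map ι)).presheaf.stalk
      ((𝟙 Z : Z ⟶ Z) (genericPoint Z))) w 0)).trans (map_zero _))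
  have hz : (Coh.push (𝟙 Z)).map ι = 0 := (cancel_mono b).mp (by
    rw [zero_comp]; exact cokernel.condition _)
  have : ι = 0 := Scheme.Modules.hom_ext _ _ fun U => congrArg (fun φ => Scheme.Modules.Hom.app φ U) hz
  subst this
  exact IsZero.of_mono_eq_zero (0 : I ⟶ Coh.structureModule Z) rfl

/-- An iso off `V(I)` has bijective stalk maps there, and conversely. -/
theorem isIso_restrict {U : X.Opens} {A B : X.Modules} (p : A ⟶ B)
    (h : ∀ x ∈ U, Function.Bijective (stalkMapₗ p x)) :
    IsIso ((Scheme.Modules.restrictFunctor U.ι).map p) := by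
  refine (Modules.Stalk.isIso_iff_stalk _).mpr fun z => ?_
  refine (NatIso.isIso_map_iff (Modules.Local.restrictStalkIso U.ι z) p).2 ?_
  exact (ConcreteCategory.isIso_iff_bijective _).mpr (h (U.ι z) z.2)

/-- `I^n G → G` is bijective at points off `V(I)`. -/
theorem stalk_ι_bijective (I : X.IdealSheafData) (G : X.Modules) [G.IsQuasicoherent] (n : ℕ)
    {x : X} (hx : x ∉ (I.support : Set X)) :
    Function.Bijective (stalkMapₗ (Dual3.idealMulι (I ^ n) G) x) := by
  refine ⟨(mono_iff_stalkMapₗ_injective _).mp inferInstance x, fun v => ?_⟩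
  obtain ⟨O, hxO, s, rfl⟩ := TopCat.Presheaf.exists_germ_eq G.presheaf v
  obtain ⟨W, hW, hxW, hWO⟩ := exists_isAffineOpen_mem_and_subset hxO
  rw [← TopCat.Presheaf.germ_res_apply _ (homOfLE hWO) x hxW s]
  let t := G.presheaf.map (homOfLE hWO).op s
  rw [SetLike.mem_coe, Scheme.IdealSheafData.mem_support_iff_of_mem (U := ⟨W, hW⟩) hxW,
    Scheme.mem_zeroLocus_iff] at hx
  push Not at hx
  obtain ⟨a, ha, hxa⟩ := hx
  have hu : IsUnit (X.presheaf.germ W x hxW a) := (X.mem_basicOpen a x hxW).mp hxa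
  obtain ⟨z, hz⟩ : a ^ n • t ∈ LinearMap.range (appL (Dual3.idealMulι (I ^ n) G) W) := by
    rw [range_ι_pow I G n ⟨W, hW⟩]
    exact Submodule.smul_mem_smul (Ideal.pow_mem_pow ha n) Submodule.mem_top
  refine ⟨(↑(hu.pow n).unit⁻¹ : X.presheaf.stalk x) •
    ((Dual3.idealMul (I ^ n)).obj G).presheaf.germ W x hxW z, ?_⟩
  rw [map_smul, stalkMapₗ_germ, show (Dual3.idealMulι (I ^ n) G).app W z = a ^ n • t from hz,
    germ_smul, map_pow, ← mul_smul, IsUnit.val_inv_mul, one_smul]
  rfl

/-- A monomorphism `I^n G → B` extending an isomorphism off `V(I)`. -/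
theorem exists_mono_ext [IsNoetherian X] (I : X.IdealSheafData) {G B : X.Modules}
    (hG : Coh.IsCoh G) [B.IsQuasicoherent] {U : X.Opens}
    (hU : (U : Set X) = (I.support : Set X)ᶜ)
    (φ : (Scheme.Modules.restrictFunctor U.ι).obj G ⟶ (Scheme.Modules.restrictFunctor U.ι).obj B)
    [IsIso φ] :
    ∃ (n : ℕ) (ψ : (Dual3.idealMul (I ^ n)).obj G ⟶ B), Mono ψ ∧
      ∀ x ∈ U, Function.Bijective (stalkMapₗ ψ x) := by
  haveI := hG.1
  have hns : ∀ x ∈ U, x ∉ (I.support : Set X) := fun x hx => by
    have : x ∈ (U : Set X) := hx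
    rwa [hU] at this
  have bij : ∀ (n : ℕ) (ψ : (Dual3.idealMul (I ^ n)).obj G ⟶ B),
      (Scheme.Modules.restrictFunctor U.ι).map ψ =
        (Scheme.Modules.restrictFunctor U.ι).map (Dual3.idealMulι (I ^ n) G) ≫ φ →
      ∀ x ∈ U, Function.Bijective (stalkMapₗ ψ x) := by
    intro n ψ hψ
    haveI := isIso_restrict (U := U) (Dual3.idealMulι (I ^ n) G)
      fun x hx => stalk_ι_bijective I G n (hns x hx)
    haveI : IsIso ((Scheme.Modules.restrictFunctor U.ι).map ψ) := hψ ▸ inferInstance
    exact fun x hx => stalkMap_bijective ψ hx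
  obtain ⟨n, hn⟩ := exists_hom_extension I hG hU φ
  obtain ⟨ψ, hψ⟩ := hn n le_rfl
  have hGn := isCoh_idealMul (I ^ n) hG
  obtain ⟨N, hN⟩ := exists_mono I hGn ψ (support_subset hU fun x hx =>
    H52.DevSummand.not_mem_support_kernel ψ (bij n ψ hψ x hx).1)
  haveI := hN N le_rfl
  haveI := hGn.1
  obtain ⟨l, hl⟩ := exists_lift (Dual3.idealMulι (I ^ N) _ ≫ Dual3.idealMulι (I ^ n) G)
    (Dual3.idealMulι (I ^ (N + n)) G) fun x => by
      obtain ⟨W, hW, hx, -⟩ := exists_isAffineOpen_mem_and_subset (U := (⊤ : X.Opens)) (x := x) trivial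
      refine ⟨W, hW, hx, ?_⟩
      rw [range_ι_comp (I ^ N) (Dual3.idealMulι (I ^ n) G) ⟨W, hW⟩, range_ι_pow I G n ⟨W, hW⟩,
        range_ι_pow I G (N + n) ⟨W, hW⟩, pow_add, Submodule.mul_smul]
      rfl
  haveI : Mono l := mono_of_mono_fac hl
  refine ⟨N + n, l ≫ Dual3.idealMulι (I ^ N) _ ≫ ψ, inferInstance, bij _ _ ?_⟩
  simp only [← hl, Functor.map_comp, Category.assoc, hψ]

/-- The comparison of a module killed at `y` with copies of a rank one module. -/
theorem exists_mono_both [IsNoetherian X] (y : X) {G A : X.Modules}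
    (hG : CohIn (closure {y}) G) [Nontrivial (G.presheaf.stalk y)]
    (hkill : ∀ a : X.presheaf.stalk y, ¬ IsUnit a → ∀ v : G.presheaf.stalk y, a • v = 0)
    (hA : CohIn (closure {y}) A) (hAy : Module.length (X.presheaf.stalk y) (A.presheaf.stalk y) = 1) :
    ∃ d, 1 ≤ d ∧ CohIn (closure {y}) (∐ fun _ : Fin d => A) ∧ ∃ I : X.IdealSheafData,
      y ∉ (I.support : Set X) ∧
      (∃ (n : ℕ) (ψ : (Dual3.idealMul (I ^ n)).obj G ⟶ ∐ fun _ : Fin d => A), Mono ψ ∧
        Function.Bijective (stalkMapₗ ψ y)) ∧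
      (∃ (n : ℕ) (ψ : (Dual3.idealMul (I ^ n)).obj (∐ fun _ : Fin d => A) ⟶ G), Mono ψ ∧
        Function.Bijective (stalkMapₗ ψ y)) := by
  haveI := hG.1.1
  haveI := hG.1.2
  haveI := Modules.GenStalk.finite_stalk G y
  obtain ⟨d, hd, ⟨e⟩⟩ := exists_equiv_pi hkill hAy
  let F : Fin d → X.Modules := fun _ => A
  refine ⟨d, hd, ?_⟩
  let c : (⨁ F) ≅ (∐ F) := biproduct.isoCoproduct F
  have hB : CohIn (closure {y}) (∐ F) :=
    ⟨CohBasics.Closure.isCoh_of_iso c (isCoh_biproduct F fun _ => hA.1),
      Modules.Support.support_congr c ▸ support_biproduct_subset F fun _ => hA.2⟩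
  refine ⟨hB, ?_⟩
  let π : (⨁ F).presheaf.stalk y →ₗ[X.presheaf.stalk y] (Fin d → A.presheaf.stalk y) :=
    LinearMap.pi fun k => stalkMapₗ (biproduct.π F k) y
  let lam : (∐ F).presheaf.stalk y →ₗ[X.presheaf.stalk y] G.presheaf.stalk y :=
    e.symm.toLinearMap ∘ₗ π ∘ₗ stalkMapₗ c.inv y
  have hlam : Function.Bijective lam :=
    e.symm.bijective.comp ((exists_stalk_biproduct F y).comp
      ((isIso_iff_stalkMapₗ_bijective c.inv).mp inferInstance y))
  obtain ⟨M, α, β, hM, -, hβy, hαβ⟩ := H52.DevSummand.bridge hB.1 hG.1 y lam hlam.2 hkill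
  have hαy : Function.Bijective (stalkMapₗ α y) := by
    rw [show ⇑(stalkMapₗ α y) = stalkMapₗ β y ∘ lam from funext hαβ]
    exact hβy.comp hlam
  haveI := hM.1.1
  haveI := hB.1.1
  let C : Set X := (CohB1.support (kernel α) ∪ CohB1.support (cokernel α)) ∪
    (CohB1.support (kernel β) ∪ CohB1.support (cokernel β))
  haveI := (CohBasics.Closure.isCoh_kernel α hB.1 hM.1.1).2
  haveI := (CohBasics.Closure.isCoh_cokernel α hB.1.1 hM.1).2
  haveI := (CohBasics.Closure.isCoh_kernel β hG.1 hM.1.1).2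
  haveI := (CohBasics.Closure.isCoh_cokernel β hG.1.1 hM.1).2
  have hC : IsClosed C := ((Modules.Support.isClosed_support _).union
    (Modules.Support.isClosed_support _)).union
    ((Modules.Support.isClosed_support _).union (Modules.Support.isClosed_support _))
  have hyC : y ∉ C := by
    rintro ((h | h) | (h | h))
    exacts [H52.DevSummand.not_mem_support_kernel α hαy.1 h,
      H52.DevSummand.not_mem_support_cokernel α hαy.2 h,
      H52.DevSummand.not_mem_support_kernel β hβy.1 h,
      H52.DevSummand.not_mem_support_cokernel β hβy.2 h]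
  let U : X.Opens := ⟨Cᶜ, hC.isOpen_compl⟩
  let I := Scheme.IdealSheafData.vanishingIdeal (⟨C, hC⟩ : Closeds X)
  have hI : (I.support : Set X) = C := by
    rw [Scheme.IdealSheafData.coe_support_vanishingIdeal]; rfl
  have hU : (U : Set X) = (I.support : Set X)ᶜ := by rw [hI]; rfl
  have bij : ∀ {Q : X.Modules} (f : Q ⟶ M), CohB1.support (kernel f) ⊆ C →
      CohB1.support (cokernel f) ⊆ C → IsIso ((Scheme.Modules.restrictFunctor U.ι).map f) := by
    intro Q f hk hc
    refine isIso_restrict f fun x hx => ?_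
    have hk' : Subsingleton ((kernel f).presheaf.stalk x) :=
      Modules.Support.not_mem_support_iff.mp fun h => hx (hk h)
    have hc' : Subsingleton ((cokernel f).presheaf.stalk x) :=
      Modules.Support.not_mem_support_iff.mp fun h => hx (hc h)
    refine ⟨(injective_iff_map_eq_zero _).mpr fun v hv => ?_, fun w => ?_⟩
    · obtain ⟨z, rfl⟩ := H52.DevSummand.eq_stalk_kernel f v hv
      rw [Subsingleton.elim z 0, map_zero]
    · exact (ShortComplex.ab_exact_iff _).mp ((Modules.Stalk.exact_iff_stalk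
        (ShortComplex.mk f (cokernel.π f) (cokernel.condition f))).mp
          (ShortComplex.exact_cokernel f) x) w (@Subsingleton.elim _ hc' _ _)
  haveI := bij α (fun x h => Or.inl (Or.inl h)) (fun x h => Or.inl (Or.inr h))
  haveI := bij β (fun x h => Or.inr (Or.inl h)) (fun x h => Or.inr (Or.inr h))
  let R := Scheme.Modules.restrictFunctor U.ι
  obtain ⟨n, ψ, hψ, hψy⟩ := exists_mono_ext I hG.1 (B := ∐ F) hU (R.map β ≫ inv (R.map α))
  obtain ⟨n', ψ', hψ', hψy'⟩ := exists_mono_ext I hB.1 (B := G) hU (R.map α ≫ inv (R.map β))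
  exact ⟨I, hI ▸ hyC, ⟨n, ψ, hψ, hψy y hyC⟩, ⟨n', ψ', hψ', hψy' y hyC⟩⟩

end Groth.Agent.Lib.CohDelta.IdealMul.DevExt
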