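import Groth.Agent.Lib.CohDelta.IdealMul.DevTools
import Mathlib.AlgebraicGeometry.Morphisms.Finite

/-!
# Direct images along finite morphisms
-/

set_option autoImplicit false
set_option linter.style.haveILetI false
universe u

open CategoryTheory CategoryTheory.Limits AlgebraicGeometry Opposite TopologicalSpace

namespace Groth.Agent.Lib.CohDelta.IdealMul.FinPush

open Groth.Agent.Lib Groth.Agent.Lib.Devissage.Basic Groth.Agent.Lib.Modules.StalkModule

variable {X Y : Scheme.{u}} (f : X ⟶ Y)

/-- Direct images of coherent modules along finite morphisms are coherent. -/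
theorem isCoh_push [IsFinite f] {M : X.Modules} (hM : Coh.IsCoh M) :
    Coh.IsCoh ((Coh.push f).obj M) := by
  haveI := hM.1
  haveI : ((Coh.push f).obj M : Y.Modules).IsQuasicoherent :=
    QCoh.Pushforward.isQCoh_pushforward f (M := M)
  refine CohBasics.Closure.isCoh_of_finite_sections fun V hV => ?_
  letI : Algebra Γ(Y, V) Γ(X, f ⁻¹ᵁ V) := (f.app V).hom.toAlgebra
  haveI : Module.Finite Γ(Y, V) Γ(X, f ⁻¹ᵁ V) := f.finite_app V hV
  letI : Module Γ(X, f ⁻¹ᵁ V) Γ((Coh.push f).obj M, V) :=
    (inferInstance : Module Γ(X, f ⁻¹ᵁ V) Γ(M, f ⁻¹ᵁ V))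
  haveI : IsScalarTower Γ(Y, V) Γ(X, f ⁻¹ᵁ V) Γ((Coh.push f).obj M, V) :=
    IsScalarTower.of_algebraMap_smul fun _ _ => rfl
  haveI : Module.Finite Γ(X, f ⁻¹ᵁ V) Γ((Coh.push f).obj M, V) :=
    CohBasics.Closure.finite_sections hM (hV.preimage f)
  exact Module.Finite.trans Γ(X, f ⁻¹ᵁ V) Γ((Coh.push f).obj M, V)

variable [IsIntegral X]

/-- A nonzero section over an open containing the generic point has nonzero germ at its image. -/
theorem nontrivial_stalk :
    Nontrivial (((Coh.push f).obj (Coh.structureModule X)).presheaf.stalk (f (genericPoint X))) := by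
  refine not_subsingleton_iff_nontrivial.mp fun h => ?_
  have e : ((Coh.push f).obj (Coh.structureModule X)).presheaf.germ ⊤ (f (genericPoint X)) (Opens.mem_top _)
      (show Γ(X, f ⁻¹ᵁ ⊤) from 1) = 0 := Subsingleton.elim _ _
  obtain ⟨V, hV, i, i', hV'⟩ := TopCat.Presheaf.germ_eq _ (f (genericPoint X)) (Opens.mem_top _) (Opens.mem_top _) _ 0
    (e.trans (map_zero _).symm)
  have h10 : X.presheaf.map ((Opens.map f.base).map i).op (1 : Γ(X, f ⁻¹ᵁ ⊤)) = 0 :=
    hV'.trans (map_zero _)
  rw [map_one] at h10
  haveI : Nonempty (f ⁻¹ᵁ V : X.Opens) := ⟨⟨genericPoint X, hV⟩⟩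
  exact one_ne_zero h10

/-- The stalk of the direct image at the image of the generic point is killed by `m`. -/
theorem killed (a : Y.presheaf.stalk (f (genericPoint X))) (ha : ¬ IsUnit a)
    (v : ((Coh.push f).obj (Coh.structureModule X)).presheaf.stalk (f (genericPoint X))) :
    a • v = 0 := by
  obtain ⟨V, hV, r, m, rfl, rfl⟩ := exists_germ_eq₂ a v
  have hr : f.app V r = 0 := by
    by_contra hne
    have : (X.basicOpen (f.app V r) : Set X).Nonempty := by
      rw [Set.nonempty_iff_ne_empty]
      intro h0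
      exact hne ((basicOpen_eq_bot_iff _).mp (Opens.ext h0))
    have hgp : genericPoint X ∈ X.basicOpen (f.app V r) :=
      (genericPoint_spec X).mem_open_set_iff (X.basicOpen (f.app V r)).2 |>.mpr
        (by simpa using this)
    rw [← Scheme.preimage_basicOpen] at hgp
    exact ha ((Y.mem_basicOpen r _ hV).mp hgp)
  rw [← germ_smul]
  show ((Coh.push f).obj (Coh.structureModule X)).presheaf.germ V _ hV
    (show Γ(X, f ⁻¹ᵁ V) from f.app V r * (show Γ(X, f ⁻¹ᵁ V) from m)) = 0
  rw [hr, zero_mul]
  exact map_zero _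

/-- The support of the direct image is the closure of the image of the generic point. -/
theorem support_eq [IsFinite f] :
    CohB1.support ((Coh.push f).obj (Coh.structureModule X)) = closure {f (genericPoint X)} := by
  haveI := TensorMod.QCohInv.isQCoh_structureModule X
  have hO : Coh.IsCoh (Coh.structureModule X) :=
    CohBasics.Closure.isCoh_of_finite_sections fun U _ => (inferInstance : Module.Finite Γ(X, U) Γ(X, U))
  haveI := (isCoh_push f hO).2
  refine Set.Subset.antisymm (fun y hy => ?_) (closure_minimal (Set.singleton_subset_iff.mpr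
    (not_subsingleton_iff_nontrivial.mpr (nontrivial_stalk f))) (Modules.Support.isClosed_support _))
  by_contra h
  refine hy (Cyc.SheafLen.subsingleton_push_stalk f _ _ isClosed_closure (fun x _ => ?_) y h)
  exact (specializes_iff_mem_closure.mp
    ((genericPoint_spec X).specializes (Set.mem_univ x) |>.map f.continuous))

end Groth.Agent.Lib.CohDelta.IdealMul.FinPush
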