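import Groth.Agent.Lib.CohDelta.IdealMul.Sec
import Groth.Agent.Lib.Modules.ClosedUnit
import Groth.Agent.Lib.Modules.ExtendFT
import Groth.Agent.Lib.Modules.Support
import Groth.Agent.Lib.Modules.Local
import Groth.Agent.H52.DevSummand
import Mathlib.RingTheory.Filtration

/-!
# Powers of an ideal: Artin-Rees, and morphisms defined off the zero locus

`exists_mono`: if the kernel of `p` is supported in `V(I)` then `I^N G → B` is a monomorphism for
large `N`. `exists_pow_le_range`: if the cokernel of `f` is supported in `V(I)` then `I^n G` is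
contained in the image of `f` for large `n`. `exists_hom_extension`: morphisms on `X ∖ V(I)` extend
to some `I^n G`.
-/

set_option autoImplicit false
set_option linter.style.haveILetI false
universe u

open CategoryTheory CategoryTheory.Limits AlgebraicGeometry Opposite TopologicalSpace

namespace Groth.Agent.Lib.CohDelta.IdealMul.Main

open Groth.Agent.Lib Groth.Agent.Lib.Modules.StalkModule Sec

variable {X : Scheme.{u}}

/-- Finitely many affine opens cover a quasi-compact scheme: a monotone condition holds on a cover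
for a single exponent. -/
theorem exists_uniform [CompactSpace X] (P : X.affineOpens → ℕ → Prop)
    (h : ∀ W, ∃ n, ∀ m, n ≤ m → P W m) :
    ∃ n, ∀ m, n ≤ m → ∀ x : X, ∃ W : X.affineOpens, x ∈ W.1 ∧ P W m := by
  classical
  choose n hn using h
  have hc : (Set.univ : Set X) ⊆ ⋃ W : X.affineOpens, (W.1 : Set X) := fun x _ => by
    obtain ⟨W, hW, hx, -⟩ := exists_isAffineOpen_mem_and_subset (U := (⊤ : X.Opens)) (x := x) trivial
    exact Set.mem_iUnion.mpr ⟨⟨W, hW⟩, hx⟩
  obtain ⟨s, hs⟩ := isCompact_univ.elim_finite_subcover _ (fun W : X.affineOpens => W.1.2) hc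
  refine ⟨s.sup n, fun m hm x => ?_⟩
  obtain ⟨W, hWs, hx⟩ := Set.mem_iUnion₂.mp (hs (Set.mem_univ x))
  exact ⟨W, hx, hn W m ((Finset.le_sup hWs).trans hm)⟩

/-- Artin-Rees, for all large exponents. -/
theorem artinRees {R M : Type u} [CommRing R] [IsNoetherianRing R] [AddCommGroup M] [Module R M]
    [Module.Finite R M] (I : Ideal R) (N : Submodule R M) :
    ∃ k, ∀ c, k ≤ c → ∀ n, c ≤ n → I ^ n • ⊤ ⊓ N = I ^ (n - c) • (I ^ c • ⊤ ⊓ N) := by
  obtain ⟨k, hk⟩ := Ideal.exists_pow_inf_eq_pow_smul I N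
  refine ⟨k, fun c hc n hn => ?_⟩
  rw [hk n (hc.trans hn), hk c hc, ← Submodule.mul_smul, ← pow_add]
  congr 2
  omega

/-- A coherent module supported in `V(I)` is killed by a power of `I`. -/
theorem exists_pow_smul_top_eq_bot [IsNoetherian X] (I : X.IdealSheafData) {Q : X.Modules}
    (hQ : Coh.IsCoh Q) (h : CohB1.support Q ⊆ (I.support : Set X)) :
    ∃ n, ∀ m, n ≤ m → ∀ W : X.affineOpens,
      I.ideal W ^ m • (⊤ : Submodule Γ(X, W.1) Γ(Q, W.1)) = ⊥ := by
  haveI := hQ.1
  haveI := hQ.2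
  obtain ⟨n, hn⟩ := Modules.ClosedUnit.exists_pow_smul_eq_zero Q I h
  refine ⟨n, fun m hm W => eq_bot_iff.mpr (Submodule.smul_le.mpr fun a ha s _ => ?_)⟩
  exact (Submodule.mem_bot _).mpr (hn W a (Ideal.pow_le_pow_right hm ha) s)

/-- Sections of the image of a morphism of quasi-coherent modules over an affine open. -/
theorem ker_cokernel_π {A G : X.Modules} [A.IsQuasicoherent] [G.IsQuasicoherent] (f : A ⟶ G)
    (W : X.affineOpens) :
    LinearMap.ker (appL (cokernel.π f) W.1) = LinearMap.range (appL f W.1) := by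
  haveI := QCoh.Closure.isQCoh_cokernel f
  haveI : (Abelian.image f).IsQuasicoherent := QCoh.Closure.isQCoh_kernel (cokernel.π f)
  rw [ker_appL]
  refine le_antisymm ?_ ?_
  · rintro _ ⟨y, rfl⟩
    obtain ⟨a, rfl⟩ := QCoh.Closure.sections_surjective_of_epi (Abelian.factorThruImage f) W.2 y
    refine ⟨a, ?_⟩
    rw [appL_apply, appL_apply, ← ConcreteCategory.comp_apply, ← Scheme.Modules.Hom.comp_app]
    exact congrArg (fun φ : A ⟶ G => φ.app W.1 a) (Abelian.image.fac f).symm
  · rintro _ ⟨a, rfl⟩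
    refine ⟨(Abelian.factorThruImage f).app W.1 a, ?_⟩
    rw [appL_apply, appL_apply, ← ConcreteCategory.comp_apply, ← Scheme.Modules.Hom.comp_app]
    exact congrArg (fun φ : A ⟶ G => φ.app W.1 a) (Abelian.image.fac f)

/-- If the cokernel of `f` is supported in `V(I)`, large powers of `I` map `G` into its image. -/
theorem exists_pow_le_range [IsNoetherian X] (I : X.IdealSheafData) {A G : X.Modules}
    [A.IsQuasicoherent] (hG : Coh.IsCoh G) (f : A ⟶ G)
    (h : CohB1.support (cokernel f) ⊆ (I.support : Set X)) :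
    ∃ n, ∀ m, n ≤ m → ∀ W : X.affineOpens,
      I.ideal W ^ m • (⊤ : Submodule Γ(X, W.1) Γ(G, W.1)) ≤ LinearMap.range (appL f W.1) := by
  haveI := hG.1
  obtain ⟨n, hn⟩ := exists_pow_smul_top_eq_bot I
    (CohBasics.Closure.isCoh_cokernel f inferInstance hG) h
  refine ⟨n, fun m hm W => ?_⟩
  rw [← ker_cokernel_π, LinearMap.le_ker_iff_map, Submodule.map_smul'']
  exact eq_bot_iff.mpr ((Submodule.smul_mono le_rfl le_top).trans (hn m hm W).le)

/-- If the kernel of `p` is supported in `V(I)` then `I^N G → B` is a monomorphism for large `N`. -/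
theorem exists_mono [IsNoetherian X] (I : X.IdealSheafData) {G B : X.Modules} (hG : Coh.IsCoh G)
    [B.IsQuasicoherent] (p : G ⟶ B) (h : CohB1.support (kernel p) ⊆ (I.support : Set X)) :
    ∃ N₀, ∀ N, N₀ ≤ N → Mono (Dual3.idealMulι (I ^ N) G ≫ p) := by
  haveI := hG.1
  have hT : Coh.IsCoh (kernel p) := CohBasics.Closure.isCoh_kernel p hG inferInstance
  obtain ⟨k, hk⟩ := exists_pow_smul_top_eq_bot I hT h
  obtain ⟨N₀, hN₀⟩ := exists_uniform
    (fun W m => I.ideal W ^ m • ⊤ ⊓ LinearMap.ker (appL p W.1) = ⊥) (fun W => by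
      haveI : IsNoetherianRing Γ(X, W.1) := IsLocallyNoetherian.component_noetherian W
      haveI := CohBasics.Closure.finite_sections hG W.2
      obtain ⟨c, hc⟩ := artinRees (I.ideal W) (LinearMap.ker (appL p W.1))
      refine ⟨c + k, fun m hm => eq_bot_iff.mpr ?_⟩
      rw [hc c le_rfl m (by omega)]
      refine (Submodule.smul_mono le_rfl inf_le_right).trans ?_
      rw [ker_appL, ← Submodule.map_top, ← Submodule.map_smul'', hk (m - c) (by omega) W,
        Submodule.map_bot])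
  refine ⟨N₀, fun N hN => ?_⟩
  apply Preadditive.mono_of_kernel_zero
  haveI := Sec.isQCoh_idealMul (I ^ N) G
  haveI := QCoh.Closure.isQCoh_kernel (Dual3.idealMulι (I ^ N) G ≫ p)
  refine eq_zero_of_cover _ fun x => ?_
  obtain ⟨W, hx, hW⟩ := hN₀ N hN x
  refine ⟨W.1, W.2, hx, fun s => ?_⟩
  refine appL_injective (Dual3.idealMulι (I ^ N) G) W.1 ?_
  rw [map_zero]
  refine (Submodule.mem_bot Γ(X, W.1)).mp (hW ▸ ⟨?_, ?_⟩)
  · rw [← range_ι_pow I G N W]; exact ⟨_, rfl⟩
  · show p.app W.1 ((Dual3.idealMulι (I ^ N) G).app W.1 _) = 0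
    rw [← ConcreteCategory.comp_apply, ← Scheme.Modules.Hom.comp_app, ← ConcreteCategory.comp_apply,
      ← Scheme.Modules.Hom.comp_app, kernel.condition]
    rfl

/-- Supports in `V(I)` from vanishing off it. -/
theorem support_subset {U : X.Opens} {I : X.IdealSheafData} (hU : (U : Set X) = (I.support : Set X)ᶜ)
    {Q : X.Modules} (h : ∀ x ∈ U, x ∉ CohB1.support Q) : CohB1.support Q ⊆ (I.support : Set X) :=
  fun x hx => by_contra fun hxI => h x (show x ∈ (U : Set X) from hU ▸ hxI) hx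

/-- A morphism vanishing on `U` has stalk maps zero there. -/
theorem stalkMap_eq_zero {U : X.Opens} {A B : X.Modules} (f : A ⟶ B)
    (hf : (Scheme.Modules.restrictFunctor U.ι).map f = 0) {x : X} (hx : x ∈ U)
    (v : A.presheaf.stalk x) : stalkMapₗ f x v = 0 := by
  obtain ⟨W, hxW, s, rfl⟩ := TopCat.Presheaf.exists_germ_eq A.presheaf v
  have hle : U.ι ''ᵁ (U.ι ⁻¹ᵁ W) ≤ W := Scheme.Hom.image_preimage_le _ _
  have hx' : x ∈ U.ι ''ᵁ (U.ι ⁻¹ᵁ W) := ⟨⟨x, hx⟩, hxW, rfl⟩
  rw [← TopCat.Presheaf.germ_res_apply _ (homOfLE hle) x hx' s, stalkMapₗ_germ,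
    show f.app (U.ι ''ᵁ (U.ι ⁻¹ᵁ W)) (A.presheaf.map (homOfLE hle).op s) = 0 from
      congrArg (fun φ : (Scheme.Modules.restrictFunctor U.ι).obj A ⟶
        (Scheme.Modules.restrictFunctor U.ι).obj B => φ.app (U.ι ⁻¹ᵁ W)
          (A.presheaf.map (homOfLE hle).op s)) hf, map_zero]

/-- A morphism `I^n G → F` vanishing off `V(I)` vanishes on some `I^N G`. -/
theorem exists_zero [IsNoetherian X] (I : X.IdealSheafData) {G F : X.Modules} (hG : Coh.IsCoh G)
    [F.IsQuasicoherent] {U : X.Opens} (hU : (U : Set X) = (I.support : Set X)ᶜ) (n : ℕ)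
    (ψ : (Dual3.idealMul (I ^ n)).obj G ⟶ F)
    (hψ : (Scheme.Modules.restrictFunctor U.ι).map ψ = 0) :
    ∃ N₀, ∀ N, N₀ ≤ N → ∃ t : (Dual3.idealMul (I ^ N)).obj G ⟶ (Dual3.idealMul (I ^ n)).obj G,
      t ≫ Dual3.idealMulι (I ^ n) G = Dual3.idealMulι (I ^ N) G ∧ t ≫ ψ = 0 := by
  haveI := hG.1
  haveI := QCoh.Closure.isQCoh_kernel ψ
  have hs : CohB1.support (cokernel (kernel.ι ψ)) ⊆ (I.support : Set X) := by
    refine support_subset hU fun x hx => Modules.Support.not_mem_support_iff.mpr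
      (subsingleton_of_forall_eq 0 fun v => ?_)
    have he : Mono (cokernel.desc (kernel.ι ψ) ψ (kernel.condition ψ)) :=
      inferInstanceAs (Mono (Abelian.factorThruCoimage ψ))
    refine (mono_iff_stalkMapₗ_injective _).mp he x ?_
    obtain ⟨w, rfl⟩ := (epi_iff_stalkMapₗ_surjective (cokernel.π (kernel.ι ψ))).mp inferInstance x v
    rw [← LinearMap.comp_apply, ← stalkMapₗ_comp, cokernel.π_desc, map_zero]
    exact stalkMap_eq_zero ψ hψ hx w
  obtain ⟨k, hk⟩ := exists_pow_le_range I (isCoh_idealMul (I ^ n) hG) (kernel.ι ψ) hs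
  refine ⟨k + n, fun N hN => ?_⟩
  obtain ⟨l, hl⟩ := exists_lift (kernel.ι ψ ≫ Dual3.idealMulι (I ^ n) G) (Dual3.idealMulι (I ^ N) G)
    fun x => by
      obtain ⟨W, hW, hx, -⟩ := exists_isAffineOpen_mem_and_subset (U := (⊤ : X.Opens)) (x := x) trivial
      refine ⟨W, hW, hx, ?_⟩
      rw [range_ι_pow I G N ⟨W, hW⟩, appL_comp, LinearMap.range_comp,
        show N = (N - n) + n by omega, pow_add, Submodule.mul_smul, ← range_ι_pow I G n ⟨W, hW⟩,
        ← Submodule.map_top (appL (Dual3.idealMulι (I ^ n) G) W), ← Submodule.map_smul'']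
      exact Submodule.map_mono (hk _ (by omega) ⟨W, hW⟩)
  exact ⟨l ≫ kernel.ι ψ, (Category.assoc _ _ _).trans hl,
    (Category.assoc _ _ _).trans ((congrArg (l ≫ ·) (kernel.condition ψ)).trans comp_zero)⟩

theorem isFT_restrict {G : X.Modules} (hG : Coh.IsCoh G) (U : X.Opens) :
    CohB1.IsFT (G.restrict U.ι) :=
  @Modules.SupportOps.isFT_of_iso _ _ _
    ((Scheme.Modules.restrictFunctorIsoPullback U.ι).app G).symm
    (@Modules.SupportOps.isFT_pullback _ _ U.ι G hG.2)

/-- Stalk maps over an open on which a morphism is an isomorphism. -/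
theorem stalkMap_bijective {U : X.Opens} {A B : X.Modules} (p : A ⟶ B)
    [IsIso ((Scheme.Modules.restrictFunctor U.ι).map p)] {x : X} (hx : x ∈ U) :
    Function.Bijective (stalkMapₗ p x) := by
  have h : IsIso ((Modules.Stalk.stalkFunctor X (U.ι (⟨x, hx⟩ : (U : Scheme.{u})))).map p) :=
    (NatIso.isIso_map_iff (Modules.Local.restrictStalkIso U.ι (⟨x, hx⟩ : (U : Scheme.{u}))) p).1
      (Functor.map_isIso (Modules.Stalk.stalkFunctor (U : Scheme.{u}) (⟨x, hx⟩ : (U : Scheme.{u})))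
        ((Scheme.Modules.restrictFunctor U.ι).map p))
  exact (ConcreteCategory.isIso_iff_bijective _).mp h

/-- A morphism on the complement of `V(I)` extends to some `I^n G`. -/
theorem exists_hom_extension [IsNoetherian X] (I : X.IdealSheafData) {G F : X.Modules}
    (hG : Coh.IsCoh G) [F.IsQuasicoherent] {U : X.Opens}
    (hU : (U : Set X) = (I.support : Set X)ᶜ)
    (φ : (Scheme.Modules.restrictFunctor U.ι).obj G ⟶ (Scheme.Modules.restrictFunctor U.ι).obj F) :
    ∃ n₀, ∀ n, n₀ ≤ n → ∃ ψ : (Dual3.idealMul (I ^ n)).obj G ⟶ F,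
      (Scheme.Modules.restrictFunctor U.ι).map ψ =
        (Scheme.Modules.restrictFunctor U.ι).map (Dual3.idealMulι (I ^ n) G) ≫ φ := by
  haveI := hG.1
  haveI : (G ⊞ F).IsQuasicoherent := QCoh.Closure.isQCoh_biprod
  let R := Scheme.Modules.restrictFunctor U.ι
  let g : R.obj G ⟶ R.obj (G ⊞ F) := R.map biprod.inl + φ ≫ R.map biprod.inr
  have hg₁ : g ≫ R.map biprod.fst = 𝟙 _ := by
    simp [g, Preadditive.add_comp, ← R.map_comp]
  have hg₂ : g ≫ R.map biprod.snd = φ := by
    simp [g, Preadditive.add_comp, ← R.map_comp]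
    exact Category.comp_id φ
  haveI : Mono g := mono_of_mono_fac hg₁
  obtain ⟨G', j, e, hj, hG'q, hG'f, he⟩ := Modules.ExtendFT.exists_extension_of_qcqs (F := G ⊞ F) U
    (TopologicalSpace.NoetherianSpace.isCompact _) (R.obj G) g (isFT_restrict hG U)
  haveI := hG'q
  let p : G' ⟶ G := j ≫ biprod.fst
  let q : G' ⟶ F := j ≫ biprod.snd
  have hp : R.map p = e.hom := by
    rw [R.map_comp, ← he, Category.assoc, hg₁, Category.comp_id]
  have hq : R.map q = R.map p ≫ φ := by
    rw [R.map_comp, ← he, hp, Category.assoc, hg₂]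
  have hiso : ∀ x ∈ U, Function.Bijective (stalkMapₗ p x) := by
    haveI : IsIso (R.map p) := hp ▸ inferInstance
    exact fun x hx => stalkMap_bijective p hx
  have hk : CohB1.support (kernel p) ⊆ (I.support : Set X) :=
    support_subset hU fun x hx => H52.DevSummand.not_mem_support_kernel p (hiso x hx).1
  have hc : CohB1.support (cokernel p) ⊆ (I.support : Set X) :=
    support_subset hU fun x hx => H52.DevSummand.not_mem_support_cokernel p (hiso x hx).2
  obtain ⟨N, hN⟩ := exists_mono I ⟨hG'q, hG'f⟩ p hk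
  obtain ⟨k, hk'⟩ := exists_pow_le_range I hG p hc
  haveI := hN N le_rfl
  refine ⟨N + k, fun n hn => ?_⟩
  obtain ⟨l, hl⟩ := exists_lift (Dual3.idealMulι (I ^ N) G' ≫ p) (Dual3.idealMulι (I ^ n) G)
    fun x => by
      obtain ⟨W, hW, hx, -⟩ := exists_isAffineOpen_mem_and_subset (U := (⊤ : X.Opens)) (x := x) trivial
      refine ⟨W, hW, hx, ?_⟩
      rw [range_ι_pow I G n ⟨W, hW⟩, range_ι_comp (I ^ N) p ⟨W, hW⟩,
        show n = N + (n - N) by omega, pow_add, Submodule.mul_smul]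
      exact Submodule.smul_mono le_rfl (hk' _ (by omega) ⟨W, hW⟩)
  refine ⟨l ≫ Dual3.idealMulι (I ^ N) G' ≫ q, ?_⟩
  show R.map _ = R.map _ ≫ φ
  rw [← hl]
  simp only [R.map_comp, Category.assoc, hq]

end Groth.Agent.Lib.CohDelta.IdealMul.Main
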