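import Groth.Agent.Lib.CohDelta.IdealMul.DevExt

/-!
# Small facts used with dévissage through `I^n G`
-/

set_option autoImplicit false
set_option linter.style.haveILetI false
universe u

open CategoryTheory CategoryTheory.Limits AlgebraicGeometry Opposite TopologicalSpace

namespace Groth.Agent.Lib.CohDelta.IdealMul.DevTools

open Groth.Agent.Lib Groth.Agent.Lib.Devissage.Basic Groth.Agent.Lib.Modules.StalkModule

variable {X : Scheme.{u}}

theorem range_eq_closure {Z : Scheme.{u}} (i : Z ⟶ X) [IsClosedImmersion i] [IsIntegral Z] :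
    Set.range i = closure {i (genericPoint Z)} := by
  rw [← Set.image_singleton, i.isClosedEmbedding.closure_image_eq, genericPoint_closure,
    Set.image_univ]

theorem support_push {Z : Scheme.{u}} (i : Z ⟶ X) [IsClosedImmersion i] (H : Z.Modules) :
    CohB1.support ((Coh.push i).obj H) ⊆ Set.range i := fun x hx => by
  by_contra h
  exact hx (Cyc.SheafLen.subsingleton_push_stalk i H _ i.isClosedEmbedding.isClosed_range
    (fun z _ => Set.mem_range_self z) x h)

theorem cohIn_push_ideal [IsLocallyNoetherian X] {Z : Scheme.{u}} (i : Z ⟶ X)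
    [IsClosedImmersion i] [IsIntegral Z] (I : Z.Modules) (ι : I ⟶ Coh.structureModule Z) [Mono ι]
    [I.IsQuasicoherent] : CohIn (closure {i (genericPoint Z)}) ((Coh.push i).obj I) := by
  haveI : ((Coh.push i).obj I : X.Modules).IsQuasicoherent :=
    QCoh.Pushforward.isQCoh_pushforward i (M := I)
  haveI : Mono ((Coh.push i).map ι) :=
    haveI := (Scheme.Modules.pullbackPushforwardAdjunction i).isRightAdjoint
    haveI : (Coh.push i).PreservesMonomorphisms :=
      Functor.preservesMonomorphisms_of_adjunction (Scheme.Modules.pullbackPushforwardAdjunction i)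
    Functor.map_mono (Coh.push i) ι
  exact ⟨CohBasics.Closure.isCoh_of_mono ((Coh.push i).map ι)
    (Devissage.Closure.isCoh_push_structureModule i), range_eq_closure i ▸ support_push i I⟩

theorem cokernel_small [IsLocallyNoetherian X] {y : X} {A M : X.Modules} (f : A ⟶ M)
    (hA : CohIn (closure {y}) A) (hM : CohIn (closure {y}) M)
    (hf : Function.Surjective (stalkMapₗ f y)) :
    CohIn (closure {y}) (cokernel f) ∧ y ∉ CohB1.support (cokernel f) :=
  ⟨⟨CohBasics.Closure.isCoh_cokernel f hA.1.1 hM.1,
    (Modules.Support.support_subset_of_epi (cokernel.π f)).trans hM.2⟩,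
    H52.DevSummand.not_mem_support_cokernel f hf⟩

theorem support_pow_subset (J : X.IdealSheafData) (n : ℕ) :
    ((J ^ n).support : Set X) ⊆ (J.support : Set X) := by
  intro x hx
  rcases eq_or_ne n 0 with rfl | hn
  · exfalso
    obtain ⟨W, hW, hxW, -⟩ := exists_isAffineOpen_mem_and_subset (U := (⊤ : X.Opens)) (x := x) trivial
    rw [SetLike.mem_coe, Scheme.IdealSheafData.mem_support_iff_of_mem (U := ⟨W, hW⟩) hxW,
      Scheme.mem_zeroLocus_iff] at hx
    refine hx 1 ?_ (by rw [Scheme.basicOpen_of_isUnit X isUnit_one]; exact hxW)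
    simp
  · rwa [J.support_pow n hn] at hx

end Groth.Agent.Lib.CohDelta.IdealMul.DevTools
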