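import Groth.Agent.Lib.CohDelta.IdealMul.Main

/-!
# Artin-Rees for the homology of `I^n F^•`
-/

set_option autoImplicit false
set_option linter.style.haveILetI false
universe u

open CategoryTheory CategoryTheory.Limits AlgebraicGeometry Opposite TopologicalSpace

namespace Groth.Agent.Lib.CohDelta.IdealMul.HomAR

open Groth.Agent.Lib Sec Main

variable {X : Scheme.{u}}

section Complex

variable (K : CochainComplex X.Modules ℤ) (p : ℤ)

theorem range_iCycles (W : X.Opens) :
    LinearMap.range (appL (K.iCycles p) W) =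
      LinearMap.ker (appL (K.d p ((ComplexShape.up ℤ).next p)) W) := by
  refine le_antisymm ?_ ?_
  · rintro _ ⟨y, rfl⟩
    rw [LinearMap.mem_ker, ← LinearMap.comp_apply, ← appL_comp, K.iCycles_d]
    rfl
  · rw [ker_appL, show kernel.ι (K.d p ((ComplexShape.up ℤ).next p)) =
      K.liftCycles (kernel.ι _) _ rfl (kernel.condition _) ≫ K.iCycles p from
        (K.liftCycles_i _ _ _ _).symm, appL_comp]
    exact LinearMap.range_comp_le_range _ _

theorem isQCoh_cycles (h : ∀ i, (K.X i).IsQuasicoherent) : (K.cycles p).IsQuasicoherent := by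
  haveI := h p
  haveI := h ((ComplexShape.up ℤ).next p)
  haveI := QCoh.Closure.isQCoh_kernel (K.d p ((ComplexShape.up ℤ).next p))
  exact CohBasics.Closure.isQCoh_of_iso (M := kernel (K.d p ((ComplexShape.up ℤ).next p)))
    (IsLimit.conePointUniqueUpToIso (kernelIsKernel (K.d p ((ComplexShape.up ℤ).next p)))
      (K.cyclesIsKernel p _ rfl))

theorem isCoh_cycles [IsLocallyNoetherian X] (h : ∀ i, Coh.IsCoh (K.X i)) :
    Coh.IsCoh (K.cycles p) := by
  haveI := isQCoh_cycles K p fun i => (h i).1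
  exact CohBasics.Closure.isCoh_of_mono (K.iCycles p) (h p)

theorem isQCoh_homology (h : ∀ i, (K.X i).IsQuasicoherent) : (K.homology p).IsQuasicoherent := by
  haveI := h ((ComplexShape.up ℤ).prev p)
  haveI := isQCoh_cycles K p h
  haveI := QCoh.Closure.isQCoh_cokernel (K.toCycles ((ComplexShape.up ℤ).prev p) p)
  exact CohBasics.Closure.isQCoh_of_iso
    (M := cokernel (K.toCycles ((ComplexShape.up ℤ).prev p) p)) (IsColimit.coconePointUniqueUpToIso
    (cokernelIsCokernel (K.toCycles ((ComplexShape.up ℤ).prev p) p))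
    (K.homologyIsCokernel _ p rfl))

theorem ker_homologyπ (h : ∀ i, (K.X i).IsQuasicoherent) (W : X.affineOpens) :
    LinearMap.ker (appL (K.homologyπ p) W.1) =
      LinearMap.range (appL (K.toCycles ((ComplexShape.up ℤ).prev p) p) W.1) := by
  haveI := h ((ComplexShape.up ℤ).prev p)
  haveI := isQCoh_cycles K p h
  rw [← ker_cokernel_π]
  let e := IsColimit.coconePointUniqueUpToIso
    (cokernelIsCokernel (K.toCycles ((ComplexShape.up ℤ).prev p) p))
    (K.homologyIsCokernel _ p rfl)
  have he : cokernel.π (K.toCycles ((ComplexShape.up ℤ).prev p) p) ≫ e.hom = K.homologyπ p :=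
    IsColimit.comp_coconePointUniqueUpToIso_hom
      (cokernelIsCokernel (K.toCycles ((ComplexShape.up ℤ).prev p) p))
      (K.homologyIsCokernel _ p rfl) WalkingParallelPair.one
  ext z
  rw [LinearMap.mem_ker, LinearMap.mem_ker, ← he, appL_comp, LinearMap.comp_apply,
    (appL e.hom W.1).map_eq_zero_iff (appL_injective e.hom W.1)]

end Complex

variable (I : X.IdealSheafData) (F : CochainComplex X.Modules ℤ) (p : ℤ)

/-- The inclusion in degree `q`. -/
noncomputable abbrev incl (n : ℕ) (q : ℤ) : ((Dual3.deligne I n).obj F).X q ⟶ F.X q :=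
  (Dual3.deligneι I n F).f q

instance mono_incl (n : ℕ) (q : ℤ) : Mono (incl I F n q) :=
  (Dual3.mono_idealMulι (I ^ n) (F.X q) :)

theorem range_incl [∀ i, (F.X i).IsQuasicoherent] (n : ℕ) (q : ℤ) (W : X.affineOpens) :
    LinearMap.range (appL (incl I F n q) W.1) = I.ideal W ^ n • ⊤ :=
  range_ι_pow I (F.X q) n W

/-- The inclusion of the cycles of `I^n F^•`. -/
noncomputable abbrev a (n : ℕ) : ((Dual3.deligne I n).obj F).cycles p ⟶ F.cycles p :=
  HomologicalComplex.cyclesMap (Dual3.deligneι I n F) p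

theorem a_iCycles (n : ℕ) :
    a I F p n ≫ F.iCycles p =
      ((Dual3.deligne I n).obj F).iCycles p ≫ incl I F n p :=
  HomologicalComplex.cyclesMap_i _ _

instance mono_a (n : ℕ) : Mono (a I F p n) := by
  haveI : Mono (((Dual3.deligne I n).obj F).iCycles p ≫ incl I F n p) := mono_comp _ _
  exact mono_of_mono_fac (a_iCycles I F p n)

theorem range_a [∀ i, (F.X i).IsQuasicoherent] (n : ℕ) (W : X.affineOpens) :
    LinearMap.range (appL (a I F p n) W.1) =
      Submodule.comap (appL (F.iCycles p) W.1) (I.ideal W ^ n • ⊤) := by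
  let K := (Dual3.deligne I n).obj F
  refine le_antisymm ?_ fun z hz => ?_
  · rintro _ ⟨y, rfl⟩
    rw [Submodule.mem_comap, ← LinearMap.comp_apply, ← appL_comp, a_iCycles, appL_comp,
      LinearMap.comp_apply, ← range_incl I F n p W]
    exact ⟨_, rfl⟩
  · rw [Submodule.mem_comap, ← range_incl I F n p W] at hz
    obtain ⟨k, hk⟩ := hz
    obtain ⟨y, hy⟩ : k ∈ LinearMap.range (appL (K.iCycles p) W.1) := by
      rw [range_iCycles, LinearMap.mem_ker]
      refine appL_injective (incl I F n ((ComplexShape.up ℤ).next p)) W.1 ?_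
      rw [map_zero, ← LinearMap.comp_apply, ← appL_comp,
        show K.d p ((ComplexShape.up ℤ).next p) ≫ incl I F n ((ComplexShape.up ℤ).next p) =
            incl I F n p ≫ F.d p ((ComplexShape.up ℤ).next p) from
          ((Dual3.deligneι I n F).comm _ _).symm,
        appL_comp, LinearMap.comp_apply, hk, ← LinearMap.comp_apply, ← appL_comp, F.iCycles_d]
      rfl
    refine ⟨y, appL_injective (F.iCycles p) W.1 ?_⟩
    rw [← LinearMap.comp_apply, ← appL_comp, a_iCycles, appL_comp, LinearMap.comp_apply, hy]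
    exact hk

theorem epi_map_homologyπ [∀ i, (F.X i).IsQuasicoherent] (n : ℕ) :
    Epi ((Dual3.idealMul (I ^ n)).map (F.homologyπ p)) := by
  haveI := isQCoh_cycles F p inferInstance
  haveI := isQCoh_homology F p inferInstance
  apply Preadditive.epi_of_cokernel_zero
  refine eq_zero_of_cover _ fun x => ?_
  obtain ⟨W, hW, hx, -⟩ := exists_isAffineOpen_mem_and_subset (U := (⊤ : X.Opens)) (x := x) trivial
  refine ⟨W, hW, hx, fun s => ?_⟩
  have hr : appL (Dual3.idealMulι (I ^ n) (F.homology p)) W s ∈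
      LinearMap.range (appL (Dual3.idealMulι (I ^ n) (F.cycles p) ≫ F.homologyπ p) W) := by
    rw [range_ι_comp (I ^ n) (F.homologyπ p) ⟨W, hW⟩,
      LinearMap.range_eq_top.mpr (show Function.Surjective (appL (F.homologyπ p) W) from
        QCoh.Closure.sections_surjective_of_epi (F.homologyπ p) hW),
      ← range_ι (I ^ n) (F.homology p) ⟨W, hW⟩]
    exact ⟨s, rfl⟩
  obtain ⟨v, hv⟩ := hr
  have hs : appL ((Dual3.idealMul (I ^ n)).map (F.homologyπ p)) W v = s := by
    refine appL_injective (Dual3.idealMulι (I ^ n) (F.homology p)) W ?_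
    rw [← LinearMap.comp_apply, ← appL_comp, Dual3.idealMul_map_ι]
    exact hv
  rw [← hs]
  show appL (cokernel.π _) W (appL _ W v) = 0
  rw [← LinearMap.comp_apply, ← appL_comp, cokernel.condition]
  rfl

/-- The Artin-Rees inequalities over `W` with constant `c`. -/
def AR (W : X.affineOpens) (c : ℕ) : Prop :=
  ∀ n, c ≤ n →
    Submodule.comap (appL (F.iCycles p) W.1) (I.ideal W ^ n • ⊤) ≤ I.ideal W ^ (n - c) • ⊤ ∧
    I.ideal W ^ n • ⊤ ⊓
        LinearMap.range (appL (F.toCycles ((ComplexShape.up ℤ).prev p) p) W.1) ≤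
      I.ideal W ^ (n - c) •
        LinearMap.range (appL (F.toCycles ((ComplexShape.up ℤ).prev p) p) W.1)

theorem exists_AR [IsNoetherian X] (hFc : ∀ q : ℤ, Coh.IsCoh (F.X q)) :
    ∃ c, 0 < c ∧ ∀ x : X, ∃ W : X.affineOpens, x ∈ W.1 ∧ AR I F p W c := by
  obtain ⟨c₀, hc₀⟩ := exists_uniform (fun W c => AR I F p W c) (fun W => by
    haveI : IsNoetherianRing Γ(X, W.1) := IsLocallyNoetherian.component_noetherian W
    haveI := CohBasics.Closure.finite_sections (hFc p) W.2
    haveI := CohBasics.Closure.finite_sections (isCoh_cycles F p hFc) W.2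
    obtain ⟨k₁, hk₁⟩ := artinRees (I.ideal W) (LinearMap.range (appL (F.iCycles p) W.1))
    obtain ⟨k₂, hk₂⟩ := artinRees (I.ideal W)
      (LinearMap.range (appL (F.toCycles ((ComplexShape.up ℤ).prev p) p) W.1))
    refine ⟨k₁ + k₂, fun c hc n hn => ⟨fun z hz => ?_, ?_⟩⟩
    · have hm : appL (F.iCycles p) W.1 z ∈
          I.ideal W ^ n • ⊤ ⊓ LinearMap.range (appL (F.iCycles p) W.1) := ⟨hz, ⟨z, rfl⟩⟩
      rw [hk₁ c (by omega) n hn] at hm
      have h : appL (F.iCycles p) W.1 z ∈
          I.ideal W ^ (n - c) • LinearMap.range (appL (F.iCycles p) W.1) :=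
        Submodule.smul_mono le_rfl inf_le_right hm
      rw [← Submodule.map_top, ← Submodule.map_smul''] at h
      obtain ⟨z', hz', e⟩ := h
      exact appL_injective (F.iCycles p) W.1 e ▸ hz'
    · rw [hk₂ c (by omega) n hn]
      exact Submodule.smul_mono le_rfl inf_le_right)
  exact ⟨c₀ + 1, by omega, hc₀ (c₀ + 1) (by omega)⟩

variable {c : ℕ} (hc : ∀ x : X, ∃ W : X.affineOpens, x ∈ W.1 ∧ AR I F p W c)

include hc in
theorem exists_b [hq : ∀ i, (F.X i).IsQuasicoherent] (n : ℕ) (hn : c ≤ n) :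
    ∃ b : ((Dual3.deligne I n).obj F).cycles p ⟶ (Dual3.idealMul (I ^ (n - c))).obj (F.cycles p),
      b ≫ Dual3.idealMulι (I ^ (n - c)) (F.cycles p) = a I F p n := by
  haveI := isQCoh_cycles F p hq
  haveI := isQCoh_cycles ((Dual3.deligne I n).obj F) p fun i => Sec.isQCoh_idealMul (I ^ n) (F.X i)
  refine exists_lift _ _ fun x => ?_
  obtain ⟨W, hx, hW⟩ := hc x
  refine ⟨W.1, W.2, hx, ?_⟩
  rw [range_a, range_ι_pow I (F.cycles p) (n - c) W]
  exact (hW n hn).1

theorem exists_s [hq : ∀ i, (F.X i).IsQuasicoherent] (n : ℕ) :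
    ∃ s : (Dual3.idealMul (I ^ n)).obj (F.cycles p) ⟶ ((Dual3.deligne I (n - c)).obj F).cycles p,
      s ≫ a I F p (n - c) = Dual3.idealMulι (I ^ n) (F.cycles p) := by
  haveI := isQCoh_cycles F p hq
  haveI := Sec.isQCoh_idealMul (I ^ n) (F.cycles p)
  refine exists_lift (a I F p (n - c)) _ fun x => ?_
  obtain ⟨W, hW, hx, -⟩ := exists_isAffineOpen_mem_and_subset (U := (⊤ : X.Opens)) (x := x) trivial
  refine ⟨W, hW, hx, ?_⟩
  rw [range_a I F p (n - c) ⟨W, hW⟩, range_ι_pow I (F.cycles p) n ⟨W, hW⟩,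
    ← Submodule.map_le_iff_le_comap, Submodule.map_smul'']
  exact Submodule.smul_mono (Ideal.pow_le_pow_right (Nat.sub_le n c)) le_top

include hc in
theorem exists_ψ [hq : ∀ i, (F.X i).IsQuasicoherent] (n : ℕ) (hn : c ≤ n)
    (s : (Dual3.idealMul (I ^ n)).obj (F.cycles p) ⟶ ((Dual3.deligne I (n - c)).obj F).cycles p)
    (hs : s ≫ a I F p (n - c) = Dual3.idealMulι (I ^ n) (F.cycles p)) :
    ∃ ψ : (Dual3.idealMul (I ^ n)).obj (F.homology p) ⟶ ((Dual3.deligne I (n - c)).obj F).homology p,
      (Dual3.idealMul (I ^ n)).map (F.homologyπ p) ≫ ψ =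
        s ≫ ((Dual3.deligne I (n - c)).obj F).homologyπ p := by
  haveI := isQCoh_cycles F p hq
  haveI := isQCoh_homology F p hq
  haveI := epi_map_homologyπ I F p n
  haveI := Sec.isQCoh_idealMul (I ^ n) (F.cycles p)
  haveI := Sec.isQCoh_idealMul (I ^ n) (F.homology p)
  haveI := hq ((ComplexShape.up ℤ).prev p)
  haveI := QCoh.Closure.isQCoh_kernel ((Dual3.idealMul (I ^ n)).map (F.homologyπ p))
  let g := s ≫ ((Dual3.deligne I (n - c)).obj F).homologyπ p
  have hk : kernel.ι ((Dual3.idealMul (I ^ n)).map (F.homologyπ p)) ≫ g = 0 := by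
    refine eq_zero_of_cover _ fun x => ?_
    obtain ⟨W, hx, hW⟩ := hc x
    refine ⟨W.1, W.2, hx, fun v₀ => ?_⟩
    show appL (((Dual3.deligne I (n - c)).obj F).homologyπ p) W.1
      (appL s W.1 (appL (kernel.ι ((Dual3.idealMul (I ^ n)).map (F.homologyπ p))) W.1 v₀)) = 0
    have hv0 : appL ((Dual3.idealMul (I ^ n)).map (F.homologyπ p)) W.1
        (appL (kernel.ι ((Dual3.idealMul (I ^ n)).map (F.homologyπ p))) W.1 v₀) = 0 := by
      rw [← LinearMap.comp_apply, ← appL_comp, kernel.condition]; rfl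
    generalize appL (kernel.ι ((Dual3.idealMul (I ^ n)).map (F.homologyπ p))) W.1 v₀ = v at hv0
    have hv : appL (Dual3.idealMulι (I ^ n) (F.cycles p)) W.1 v ∈ I.ideal W ^ n • ⊤ ⊓
        LinearMap.range (appL (F.toCycles ((ComplexShape.up ℤ).prev p) p) W.1) := by
      refine ⟨?_, ?_⟩
      · rw [← range_ι_pow I (F.cycles p) n W]; exact ⟨_, rfl⟩
      · rw [← ker_homologyπ F p hq W]
        show appL (F.homologyπ p) W.1 (appL _ W.1 v) = 0
        rw [← LinearMap.comp_apply, ← appL_comp, ← Dual3.idealMul_map_ι, appL_comp,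
          LinearMap.comp_apply, hv0, map_zero]
    have h2 := (hW n hn).2 hv
    have h3 : appL (Dual3.idealMulι (I ^ n) (F.cycles p)) W.1 v ∈ LinearMap.range
        (appL (incl I F (n - c) ((ComplexShape.up ℤ).prev p) ≫
          F.toCycles ((ComplexShape.up ℤ).prev p) p) W.1) := by
      rw [appL_comp, LinearMap.range_comp, range_incl, Submodule.map_smul'', Submodule.map_top]
      exact h2
    obtain ⟨w, hw⟩ := h3
    have e : appL s W.1 v = appL (((Dual3.deligne I (n - c)).obj F).toCycles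
        ((ComplexShape.up ℤ).prev p) p) W.1 w := by
      refine appL_injective (a I F p (n - c)) W.1 ?_
      rw [← LinearMap.comp_apply, ← appL_comp, hs]
      refine hw.symm.trans ?_
      rw [← LinearMap.comp_apply, ← appL_comp]
      refine LinearMap.congr_fun (congrArg (fun f => appL f W.1) ?_) w
      rw [← cancel_mono (F.iCycles p), Category.assoc, Category.assoc, a_iCycles,
        F.toCycles_i, ← Category.assoc, ((Dual3.deligne I (n - c)).obj F).toCycles_i]
      exact (Dual3.deligneι I (n - c) F).comm _ _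
    rw [e, ← LinearMap.comp_apply, ← appL_comp, HomologicalComplex.toCycles_comp_homologyπ]
    rfl
  exact ⟨Abelian.epiDesc _ g hk, Abelian.comp_epiDesc _ g hk⟩

/-- The homology of `I^n F^•` and `I^n H(F^•)` are pro-isomorphic. -/
theorem main [IsNoetherian X] (hFc : ∀ q : ℤ, Coh.IsCoh (F.X q)) :
    ∃ (c : ℕ)
      (φ : ∀ n : ℕ, ((Dual3.deligne I n).obj F).homology p ⟶
        (Dual3.idealMul (I ^ (n - c))).obj (F.homology p))
      (ψ : ∀ n : ℕ, (Dual3.idealMul (I ^ n)).obj (F.homology p) ⟶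
        ((Dual3.deligne I (n - c)).obj F).homology p),
      0 < c ∧
      (∀ n : ℕ, c ≤ n → φ n ≫ Dual3.idealMulι (I ^ (n - c)) (F.homology p) =
        HomologicalComplex.homologyMap (Dual3.deligneι I n F) p) ∧
      (∀ n : ℕ, c ≤ n → ψ n ≫ HomologicalComplex.homologyMap (Dual3.deligneι I (n - c) F) p =
        Dual3.idealMulι (I ^ n) (F.homology p)) ∧
      (∀ n : ℕ, 2 * c ≤ n → (ψ n ≫ φ (n - c)) ≫ Dual3.idealMulι (I ^ (n - c - c)) (F.homology p) =
        Dual3.idealMulι (I ^ n) (F.homology p)) ∧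
      ∀ (n : ℕ), 2 * c ≤ n → ∀ t : (Dual3.deligne I n).obj F ⟶ (Dual3.deligne I (n - c - c)).obj F,
        t ≫ Dual3.deligneι I (n - c - c) F = Dual3.deligneι I n F →
          φ n ≫ ψ (n - c) = HomologicalComplex.homologyMap t p := by
  haveI hq : ∀ i, (F.X i).IsQuasicoherent := fun i => (hFc i).1
  obtain ⟨c, hcpos, hc⟩ := exists_AR I F p hFc
  have exB : ∀ n, ∃ b : ((Dual3.deligne I n).obj F).cycles p ⟶
      (Dual3.idealMul (I ^ (n - c))).obj (F.cycles p),
      c ≤ n → b ≫ Dual3.idealMulι (I ^ (n - c)) (F.cycles p) = a I F p n := fun n => by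
    by_cases hn : c ≤ n
    · obtain ⟨b, hb⟩ := exists_b I F p hc n hn
      exact ⟨b, fun _ => hb⟩
    · exact ⟨0, fun h => absurd h hn⟩
  choose b hb using exB
  choose s hs using fun n => exists_s I F p (c := c) n
  have exφ : ∀ n, ∃ φ : ((Dual3.deligne I n).obj F).homology p ⟶
      (Dual3.idealMul (I ^ (n - c))).obj (F.homology p),
      c ≤ n → φ ≫ Dual3.idealMulι (I ^ (n - c)) (F.homology p) =
        HomologicalComplex.homologyMap (Dual3.deligneι I n F) p := by
    intro n
    by_cases hn : c ≤ n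
    · have hz : HomologicalComplex.homologyMap (Dual3.deligneι I n F) p ≫
          cokernel.π (Dual3.idealMulι (I ^ (n - c)) (F.homology p)) = 0 := by
        refine (cancel_epi (((Dual3.deligne I n).obj F).homologyπ p)).mp ?_
        rw [comp_zero, HomologicalComplex.homologyπ_naturality_assoc]
        show a I F p n ≫ _ = 0
        rw [← hb n hn, Category.assoc, ← Dual3.idealMul_map_ι_assoc, cokernel.condition,
          comp_zero, comp_zero]
      exact ⟨Abelian.monoLift _ _ hz, fun _ => Abelian.monoLift_comp _ _ hz⟩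
    · exact ⟨0, fun h => absurd h hn⟩
  choose φ hφ using exφ
  have exψ : ∀ n, ∃ ψ : (Dual3.idealMul (I ^ n)).obj (F.homology p) ⟶
      ((Dual3.deligne I (n - c)).obj F).homology p,
      c ≤ n → (Dual3.idealMul (I ^ n)).map (F.homologyπ p) ≫ ψ =
        s n ≫ ((Dual3.deligne I (n - c)).obj F).homologyπ p := by
    intro n
    by_cases hn : c ≤ n
    · obtain ⟨ψ, hψ⟩ := exists_ψ I F p hc n hn (s n) (hs n)
      exact ⟨ψ, fun _ => hψ⟩
    · exact ⟨0, fun h => absurd h hn⟩
  choose ψ hψ using exψ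
  have h2 : ∀ n, c ≤ n → ψ n ≫ HomologicalComplex.homologyMap (Dual3.deligneι I (n - c) F) p =
      Dual3.idealMulι (I ^ n) (F.homology p) := fun n hn => by
    haveI := epi_map_homologyπ I F p n
    rw [← cancel_epi ((Dual3.idealMul (I ^ n)).map (F.homologyπ p)), ← Category.assoc, hψ n hn,
      Category.assoc, HomologicalComplex.homologyπ_naturality, ← Category.assoc, hs n,
      Dual3.idealMul_map_ι]
  refine ⟨c, φ, ψ, hcpos, hφ, h2, fun n hn => ?_, fun n hn t ht => ?_⟩
  · rw [Category.assoc, hφ (n - c) (by omega), h2 n (by omega)]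
  · refine (cancel_epi (((Dual3.deligne I n).obj F).homologyπ p)).mp ?_
    have h1 : ((Dual3.deligne I n).obj F).homologyπ p ≫ φ n =
        b n ≫ (Dual3.idealMul (I ^ (n - c))).map (F.homologyπ p) := by
      rw [← cancel_mono (Dual3.idealMulι (I ^ (n - c)) (F.homology p)), Category.assoc,
        hφ n (by omega), Category.assoc, Dual3.idealMul_map_ι, ← Category.assoc, hb n (by omega),
        HomologicalComplex.homologyπ_naturality]
    have h3 : b n ≫ s (n - c) = HomologicalComplex.cyclesMap t p := by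
      rw [← cancel_mono (a I F p (n - c - c)), Category.assoc, hs (n - c), hb n (by omega),
        ← HomologicalComplex.cyclesMap_comp, ht]
    rw [← Category.assoc, h1, Category.assoc, hψ (n - c) (by omega), ← Category.assoc, h3,
      HomologicalComplex.homologyπ_naturality]

end Groth.Agent.Lib.CohDelta.IdealMul.HomAR
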