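import Groth.Agent.Lib.CohDelta.IdealMul.Main
import Mathlib.CategoryTheory.Subobject.Lattice

/-!
# Artin-Rees for `I^n F ∩ G`
-/

set_option autoImplicit false
set_option linter.style.haveILetI false
universe u

open CategoryTheory CategoryTheory.Limits AlgebraicGeometry Opposite TopologicalSpace

namespace Groth.Agent.Lib.CohDelta.IdealMul.Artin

open Groth.Agent.Lib Sec Main

variable {X : Scheme.{u}}

/-- Sections of an intersection of subobjects. -/
theorem range_inf {A B F : X.Modules} (f : A ⟶ F) [Mono f] (g : B ⟶ F) [Mono g] (W : X.Opens) :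
    LinearMap.range (appL (Subobject.mk f ⊓ Subobject.mk g).arrow W) =
      LinearMap.range (appL f W) ⊓ LinearMap.range (appL g W) := by
  refine le_antisymm (le_inf ?_ ?_) ?_
  · rw [← Subobject.ofLEMk_comp (h := (inf_le_left : Subobject.mk f ⊓ Subobject.mk g ≤ _)),
      appL_comp]
    exact LinearMap.range_comp_le_range _ _
  · rw [← Subobject.ofLEMk_comp (h := (inf_le_right : Subobject.mk f ⊓ Subobject.mk g ≤ _)),
      appL_comp]
    exact LinearMap.range_comp_le_range _ _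
  · let k := kernel.ι (g ≫ cokernel.π f)
    have hz : (k ≫ g) ≫ cokernel.π f = 0 := (Category.assoc _ _ _).trans (kernel.condition _)
    have hle : Subobject.mk (k ≫ g) ≤ Subobject.mk f ⊓ Subobject.mk g :=
      le_inf (Subobject.mk_le_mk_of_comm (Abelian.monoLift f (k ≫ g) hz) (Abelian.monoLift_comp _ _ _))
        (Subobject.mk_le_mk_of_comm k rfl)
    obtain ⟨l, hl⟩ : ∃ l, l ≫ (Subobject.mk f ⊓ Subobject.mk g).arrow = k ≫ g :=
      ⟨(Subobject.underlyingIso (k ≫ g)).inv ≫ Subobject.ofLE _ _ hle, by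
        rw [Category.assoc, Subobject.ofLE_arrow, Subobject.underlyingIso_arrow]⟩
    rintro m ⟨⟨a, ha⟩, ⟨b, rfl⟩⟩
    obtain ⟨y, hy⟩ : b ∈ LinearMap.range (appL k W) := by
      rw [← ker_appL, LinearMap.mem_ker, appL_comp, LinearMap.comp_apply, ← ha,
        ← LinearMap.comp_apply, ← appL_comp, cokernel.condition]
      rfl
    exact ⟨appL l W y, by rw [← LinearMap.comp_apply, ← appL_comp, hl, appL_comp, LinearMap.comp_apply, hy]⟩

theorem isQCoh_inf {A B F : X.Modules} [A.IsQuasicoherent] [B.IsQuasicoherent] [F.IsQuasicoherent]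
    (f : A ⟶ F) [Mono f] (g : B ⟶ F) [Mono g] :
    ((Subobject.mk f ⊓ Subobject.mk g : Subobject F) : X.Modules).IsQuasicoherent := by
  haveI := QCoh.Closure.isQCoh_cokernel f
  haveI := QCoh.Closure.isQCoh_kernel (g ≫ cokernel.π f)
  let k := kernel.ι (g ≫ cokernel.π f)
  have hz : (k ≫ g) ≫ cokernel.π f = 0 := (Category.assoc _ _ _).trans (kernel.condition _)
  have e : Subobject.mk (k ≫ g) = Subobject.mk f ⊓ Subobject.mk g := by
    refine le_antisymm (le_inf (Subobject.mk_le_mk_of_comm (Abelian.monoLift f (k ≫ g) hz)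
      (Abelian.monoLift_comp _ _ _)) (Subobject.mk_le_mk_of_comm k rfl)) ?_
    let S := Subobject.mk f ⊓ Subobject.mk g
    have h1 := Subobject.ofLEMk_comp (h := (inf_le_left : S ≤ Subobject.mk f))
    have h2 := Subobject.ofLEMk_comp (h := (inf_le_right : S ≤ Subobject.mk g))
    have hc : Subobject.ofLEMk S g inf_le_right ≫ g ≫ cokernel.π f = 0 := by
      rw [← Category.assoc, h2, ← h1, Category.assoc, cokernel.condition, comp_zero]
    exact Subobject.le_mk_of_comm (kernel.lift _ _ hc) (by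
      show _ ≫ k ≫ g = _
      rw [← Category.assoc, kernel.lift_ι, h2])
  exact CohBasics.Closure.isQCoh_of_iso ((Subobject.underlyingIso (k ≫ g)).symm ≪≫
    eqToIso (congrArg (fun S : Subobject F => (S : X.Modules)) e))

theorem main (X : Scheme.{u}) [IsNoetherian X] (F G : X.Modules) (hF : Coh.IsCoh F)
    (hG : Coh.IsQCoh G) (ι : G ⟶ F) [Mono ι] (I : X.IdealSheafData) :
    ∃ c : ℕ, ∀ n : ℕ, c ≤ n →
      Subobject.mk (Dual3.idealMulι (I ^ (n - c))
          (Subobject.underlying.obj (Subobject.mk (Dual3.idealMulι (I ^ c) F) ⊓ Subobject.mk ι)) ≫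
        (Subobject.mk (Dual3.idealMulι (I ^ c) F) ⊓ Subobject.mk ι).arrow) =
      Subobject.mk (Dual3.idealMulι (I ^ n) F) ⊓ Subobject.mk ι := by
  haveI := hF.1
  haveI : G.IsQuasicoherent := hG
  obtain ⟨c, hc⟩ := exists_uniform (fun W c => ∀ n, c ≤ n →
      I.ideal W ^ n • ⊤ ⊓ LinearMap.range (appL ι W.1) =
        I.ideal W ^ (n - c) • (I.ideal W ^ c • ⊤ ⊓ LinearMap.range (appL ι W.1))) (fun W => by
    haveI : IsNoetherianRing Γ(X, W.1) := IsLocallyNoetherian.component_noetherian W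
    haveI := CohBasics.Closure.finite_sections hF W.2
    exact artinRees (I.ideal W) _)
  refine ⟨c, fun n hn => ?_⟩
  let P := Subobject.mk (Dual3.idealMulι (I ^ c) F) ⊓ Subobject.mk ι
  let Q := Subobject.mk (Dual3.idealMulι (I ^ n) F) ⊓ Subobject.mk ι
  haveI : (P : X.Modules).IsQuasicoherent := isQCoh_inf (Dual3.idealMulι (I ^ c) F) ι
  haveI : (Q : X.Modules).IsQuasicoherent := isQCoh_inf (Dual3.idealMulι (I ^ n) F) ι
  haveI := Sec.isQCoh_idealMul (I ^ (n - c)) (P : X.Modules)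
  have key : ∀ x : X, ∃ W : X.Opens, IsAffineOpen W ∧ x ∈ W ∧
      LinearMap.range (appL (Dual3.idealMulι (I ^ (n - c)) (P : X.Modules) ≫ P.arrow) W) =
        LinearMap.range (appL Q.arrow W) := fun x => by
    obtain ⟨W, hx, hW⟩ := hc c le_rfl x
    refine ⟨W.1, W.2, hx, ?_⟩
    rw [range_ι_comp (I ^ (n - c)) P.arrow W, range_inf, range_inf, range_ι_pow I F c W,
      range_ι_pow I F n W, hW n hn]
    rfl
  obtain ⟨l₁, h₁⟩ := exists_lift Q.arrow (Dual3.idealMulι (I ^ (n - c)) (P : X.Modules) ≫ P.arrow)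
    fun x => let ⟨W, a, b, e⟩ := key x; ⟨W, a, b, e.le⟩
  obtain ⟨l₂, h₂⟩ := exists_lift (Dual3.idealMulι (I ^ (n - c)) (P : X.Modules) ≫ P.arrow) Q.arrow
    fun x => let ⟨W, a, b, e⟩ := key x; ⟨W, a, b, e.ge⟩
  exact le_antisymm (Subobject.mk_le_of_comm l₁ h₁) (Subobject.le_mk_of_comm l₂ h₂)

end Groth.Agent.Lib.CohDelta.IdealMul.Artin
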