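import Groth.Prelude.Def_Dual3
import Groth.Agent.Lib.ZarCoh.FlatBC.PullbackSections
import Groth.Agent.Lib.QCoh.Closure
import Groth.Agent.Lib.QCoh.Pushforward
import Groth.Agent.Lib.QCoh.Pullback
import Groth.Agent.Lib.CohBasics.Closure
import Groth.Agent.Lib.Modules.StalkModule

/-!
# Sections of `I · F` on affine opens

`range_ι`: for quasi-coherent `F` the sections of `I · F` over an affine open `W` are
`I(W) • Γ(F, W)`. `exists_lift`: a morphism factors through a monomorphism as soon as it does so on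
the members of an affine cover.
-/

set_option autoImplicit false
set_option linter.style.haveILetI false
universe u

open CategoryTheory CategoryTheory.Limits AlgebraicGeometry Opposite TopologicalSpace
open scoped TensorProduct

namespace Groth.Agent.Lib.CohDelta.IdealMul.Sec

open Groth.Agent.Lib Groth.Agent.Lib.Modules.StalkModule

variable {X : Scheme.{u}}

/-- A morphism on sections, as a linear map. -/
noncomputable def appL {A B : X.Modules} (f : A ⟶ B) (W : X.Opens) :
    Γ(A, W) →ₗ[Γ(X, W)] Γ(B, W) :=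
  { (f.app W).hom with map_smul' := fun r s => Scheme.Modules.Hom.app_smul f r s }

theorem appL_apply {A B : X.Modules} (f : A ⟶ B) (W : X.Opens) (s : Γ(A, W)) :
    appL f W s = f.app W s := rfl

theorem appL_comp {A B C : X.Modules} (f : A ⟶ B) (g : B ⟶ C) (W : X.Opens) :
    appL (f ≫ g) W = (appL g W).comp (appL f W) := rfl

theorem appL_injective {A B : X.Modules} (f : A ⟶ B) [Mono f] (W : X.Opens) :
    Function.Injective (appL f W) :=
  QCoh.Closure.sections_injective_of_mono f W

theorem ker_appL {A B : X.Modules} (f : A ⟶ B) (W : X.Opens) :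
    LinearMap.ker (appL f W) = LinearMap.range (appL (kernel.ι f) W) := by
  refine le_antisymm (fun m hm => ?_) ?_
  · obtain ⟨y, hy⟩ := QCoh.Closure.sections_exact
      (S := ShortComplex.mk (kernel.ι f) f (kernel.condition f))
      (ShortComplex.exact_kernel f) W m hm
    exact ⟨y, hy⟩
  · rintro _ ⟨y, rfl⟩
    show f.app W ((kernel.ι f).app W y) = 0
    rw [← ConcreteCategory.comp_apply, ← Scheme.Modules.Hom.comp_app, kernel.condition]
    rfl

/-- A morphism out of a quasi-coherent module vanishes if it does on an affine cover. -/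
theorem eq_zero_of_cover {C Q : X.Modules} [C.IsQuasicoherent] (h : C ⟶ Q)
    (hc : ∀ x : X, ∃ W : X.Opens, IsAffineOpen W ∧ x ∈ W ∧ ∀ s : Γ(C, W), h.app W s = 0) :
    h = 0 := by
  refine Modules.Stalk.hom_ext_stalk fun x => ?_
  obtain ⟨W, hW, hx, hz⟩ := hc x
  suffices key : ∀ v : C.presheaf.stalk x, stalkMapₗ h x v = stalkMapₗ (0 : C ⟶ Q) x v by
    ext v
    exact key v
  intro v
  rw [stalkMapₗ_zero, LinearMap.zero_apply]
  have hspan := CohBasics.Affine.germ_span_eq_top (M := C) hW Set.univ Submodule.span_univ hx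
  have hv : v ∈ Submodule.span (X.presheaf.stalk x)
      ((fun s => C.presheaf.germ W x hx s) '' Set.univ) := hspan ▸ Submodule.mem_top
  induction hv using Submodule.span_induction with
  | mem t ht =>
    obtain ⟨s, -, rfl⟩ := ht
    rw [stalkMapₗ_germ, hz s, map_zero]
  | zero => rw [map_zero]
  | add a b _ _ ha hb => rw [map_add, ha, hb, add_zero]
  | smul c a _ ha => rw [map_smul, ha, smul_zero]

/-- Factorisation through a monomorphism can be tested on an affine cover. -/
theorem exists_lift {A B C : X.Modules} [C.IsQuasicoherent] (f : A ⟶ B) [Mono f] (h : C ⟶ B)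
    (hc : ∀ x : X, ∃ W : X.Opens, IsAffineOpen W ∧ x ∈ W ∧
      LinearMap.range (appL h W) ≤ LinearMap.range (appL f W)) :
    ∃ l : C ⟶ A, l ≫ f = h := by
  have hz : h ≫ cokernel.π f = 0 := by
    refine eq_zero_of_cover _ fun x => ?_
    obtain ⟨W, hW, hx, hle⟩ := hc x
    refine ⟨W, hW, hx, fun s => ?_⟩
    obtain ⟨a, ha⟩ := hle ⟨s, rfl⟩
    rw [Scheme.Modules.Hom.comp_app, ConcreteCategory.comp_apply]
    refine (congrArg (fun t => (cokernel.π f).app W t) (show h.app W s = f.app W a from ha.symm)).trans ?_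
    rw [← ConcreteCategory.comp_apply, ← Scheme.Modules.Hom.comp_app, cokernel.condition]
    rfl
  exact ⟨Abelian.monoLift f h hz, Abelian.monoLift_comp f h hz⟩

variable (I : X.IdealSheafData)

instance isQCoh_onSub (F : X.Modules) [F.IsQuasicoherent] :
    ((Scheme.Modules.pushforward I.subschemeι).obj
      ((Scheme.Modules.pullback I.subschemeι).obj F)).IsQuasicoherent :=
  haveI := QCoh.Pullback.isQCoh_pullback I.subschemeι F
  QCoh.Pushforward.isQCoh_pushforward I.subschemeι (M := (Scheme.Modules.pullback I.subschemeι).obj F)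

instance isQCoh_idealMul (F : X.Modules) [F.IsQuasicoherent] :
    ((Dual3.idealMul I).obj F).IsQuasicoherent :=
  @QCoh.Closure.isQCoh_kernel _ F _ ‹_› (isQCoh_onSub I F)
    ((Scheme.Modules.pullbackPushforwardAdjunction I.subschemeι).unit.app F)

theorem isCoh_idealMul [IsLocallyNoetherian X] {F : X.Modules} (hF : Coh.IsCoh F) :
    Coh.IsCoh ((Dual3.idealMul I).obj F) :=
  haveI := hF.1
  CohBasics.Closure.isCoh_kernel
    ((Scheme.Modules.pullbackPushforwardAdjunction I.subschemeι).unit.app F) hF (isQCoh_onSub I F)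

theorem mem_smul_top_of_one_tmul {R S M : Type u} [CommRing R] [CommRing S] [Algebra R S]
    (hS : Function.Surjective (algebraMap R S)) [AddCommGroup M] [Module R M] (a : M)
    (h : (1 : S) ⊗ₜ[R] a = 0) : a ∈ RingHom.ker (algebraMap R S) • (⊤ : Submodule R M) := by
  have hex : Function.Exact (RingHom.ker (algebraMap R S)).subtype (Algebra.linearMap R S) := fun r =>
    ⟨fun hr => ⟨⟨r, hr⟩, rfl⟩, fun ⟨c, hc⟩ => hc ▸ c.2⟩
  obtain ⟨t, ht⟩ := (rTensor_exact M hex hS ((1 : R) ⊗ₜ[R] a)).1
    (by rw [LinearMap.rTensor_tmul, Algebra.linearMap_apply, map_one]; exact h)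
  have e := congrArg (TensorProduct.lid R M) ht
  rw [TensorProduct.lid_tmul, one_smul] at e
  rw [← e]
  clear ht e
  induction t using TensorProduct.induction_on with
  | zero => simp
  | tmul r m =>
    rw [LinearMap.rTensor_tmul, TensorProduct.lid_tmul]
    exact Submodule.smul_mem_smul r.2 Submodule.mem_top
  | add s t hs ht => rw [map_add, map_add]; exact add_mem hs ht

/-- Sections of `I · F` on an affine open. -/
theorem range_ι (F : X.Modules) [F.IsQuasicoherent] (W : X.affineOpens) :
    LinearMap.range (appL (Dual3.idealMulι I F) W.1) = I.ideal W • ⊤ := by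
  let i := I.subschemeι
  let η := (Scheme.Modules.pullbackPushforwardAdjunction i).unit.app F
  rw [show LinearMap.range (appL (Dual3.idealMulι I F) W.1) = LinearMap.ker (appL η W.1) from
    (ker_appL η W.1).symm]
  refine le_antisymm (fun m hm => ?_) (Submodule.smul_le.mpr fun a ha m _ => ?_)
  · letI : Algebra Γ(X, W.1) Γ(I.subscheme, i ⁻¹ᵁ W.1) :=
      (i.appLE W.1 (i ⁻¹ᵁ W.1) le_rfl).hom.toAlgebra
    have halg : algebraMap Γ(X, W.1) Γ(I.subscheme, i ⁻¹ᵁ W.1) = (i.app W.1).hom := by
      rw [RingHom.algebraMap_toAlgebra, Scheme.Hom.appLE_eq_app]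
    have hsurj : Function.Surjective (algebraMap Γ(X, W.1) Γ(I.subscheme, i ⁻¹ᵁ W.1)) := by
      rw [halg]; exact I.subschemeι_app_surjective W
    have hker : RingHom.ker (algebraMap Γ(X, W.1) Γ(I.subscheme, i ⁻¹ᵁ W.1)) = I.ideal W := by
      rw [halg]; exact I.ker_subschemeι_app W
    rw [← hker]
    refine mem_smul_top_of_one_tmul hsurj m ?_
    refine (_root_.ZarCoh.FlatBC.PullbackSections.bijective_pbTensor i F W.2 (W.2.preimage i)
      le_rfl).1 ?_
    rw [map_zero, _root_.ZarCoh.FlatBC.PullbackSections.pbTensor_tmul, one_smul]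
    show ((Scheme.Modules.pullback i).obj F).presheaf.map _ (η.app W.1 m) = 0
    rw [show η.app W.1 m = 0 from hm]
    exact map_zero _
  · show η.app W.1 (a • m) = 0
    rw [Scheme.Modules.Hom.app_smul]
    show i.app W.1 a • (show Γ((Scheme.Modules.pullback i).obj F, i ⁻¹ᵁ W.1) from η.app W.1 m) = 0
    rw [show i.app W.1 a = 0 from by rw [← RingHom.mem_ker, I.ker_subschemeι_app W]; exact ha,
      zero_smul]

/-- Sections of the image of `I · A` in `F`. -/
theorem range_ι_comp {A F : X.Modules} [A.IsQuasicoherent] (f : A ⟶ F) (W : X.affineOpens) :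
    LinearMap.range (appL (Dual3.idealMulι I A ≫ f) W.1) =
      I.ideal W • LinearMap.range (appL f W.1) := by
  rw [appL_comp, LinearMap.range_comp, range_ι, Submodule.map_smul'', Submodule.map_top]

theorem range_ι_pow (F : X.Modules) [F.IsQuasicoherent] (n : ℕ) (W : X.affineOpens) :
    LinearMap.range (appL (Dual3.idealMulι (I ^ n) F) W.1) = I.ideal W ^ n • ⊤ :=
  range_ι (I ^ n) F W

/-- The inclusion `I^m F ⟶ I^n F` for `n ≤ m`. -/
theorem exists_trans (F : X.Modules) [F.IsQuasicoherent] {n m : ℕ} (h : n ≤ m) :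
    ∃ t : (Dual3.idealMul (I ^ m)).obj F ⟶ (Dual3.idealMul (I ^ n)).obj F,
      t ≫ Dual3.idealMulι (I ^ n) F = Dual3.idealMulι (I ^ m) F := by
  refine exists_lift _ _ fun x => ?_
  obtain ⟨W, hW, hx, -⟩ := exists_isAffineOpen_mem_and_subset (U := (⊤ : X.Opens)) (x := x) trivial
  refine ⟨W, hW, hx, ?_⟩
  rw [range_ι_pow I F m ⟨W, hW⟩, range_ι_pow I F n ⟨W, hW⟩]
  exact Submodule.smul_mono_left (Ideal.pow_le_pow_right h)

end Groth.Agent.Lib.CohDelta.IdealMul.Sec
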