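import Groth.Agent.Lib.CohDelta.IdealMul.FinPush
import Groth.Agent.Lib.CohDelta.IdealMul.Sec
import Groth.Agent.Lib.Ideal.Comap

/-!
# Finite surjective morphisms of integral schemes at the generic points
-/

set_option autoImplicit false
set_option linter.style.haveILetI false
set_option linter.unusedSectionVars false
universe u

open CategoryTheory CategoryTheory.Limits AlgebraicGeometry Opposite TopologicalSpace

namespace Groth.Agent.Lib.CohDelta.IdealMul.FinGen

open Groth.Agent.Lib Groth.Agent.Lib.Modules.StalkModule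

variable {X Y : Scheme.{u}} [IsIntegral X] [IsIntegral Y] (f : X ⟶ Y) [IsFinite f] [Surjective f]

omit [IsFinite f] in
theorem map_genericPoint : f (genericPoint X) = genericPoint Y :=
  (((genericPoint_spec X).image f.continuous).eq (by
    rw [Set.image_univ, f.surjective.range_eq, closure_univ]; exact genericPoint_spec Y))

omit [IsIntegral Y] [Surjective f] in
theorem eq_genericPoint {x : X} (hx : f x = f (genericPoint X)) : x = genericPoint X := by
  haveI : DiscreteTopology (f ⁻¹' {f (genericPoint X)}) :=
    (f.isDiscrete_preimage_singleton _).to_subtype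
  have hs : (⟨genericPoint X, rfl⟩ : f ⁻¹' {f (genericPoint X)}) ⤳ ⟨x, hx⟩ :=
    (subtype_specializes_iff _ _).mpr ((genericPoint_spec X).specializes (Set.mem_univ x))
  exact (congrArg Subtype.val hs.eq).symm

theorem exists_preimage_subset {W : X.Opens} (hW : genericPoint X ∈ W) :
    ∃ V : Y.Opens, f (genericPoint X) ∈ V ∧ f ⁻¹ᵁ V ≤ W := by
  refine ⟨⟨(f '' (W : Set X)ᶜ)ᶜ, (f.isClosedMap _ W.2.isClosed_compl).isOpen_compl⟩, ?_,
    fun z hz => by_contra fun h => hz ⟨z, h, rfl⟩⟩
  rintro ⟨z, hz, e⟩
  exact hz (eq_genericPoint f e ▸ hW)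

theorem pushStalk_bijective (M : X.Modules) :
    Function.Bijective (Cyc.SheafLen.pushStalk f M (genericPoint X)) := by
  refine ⟨(injective_iff_map_eq_zero _).mpr fun v hv => ?_, fun v => ?_⟩
  · obtain ⟨V, hV, m, rfl⟩ := TopCat.Presheaf.exists_germ_eq ((Coh.push f).obj M).presheaf v
    rw [Cyc.SheafLen.pushStalk_germ] at hv
    obtain ⟨W, hW, i, i', h⟩ := TopCat.Presheaf.germ_eq M.presheaf (genericPoint X)
      (show genericPoint X ∈ f ⁻¹ᵁ V from hV) (show genericPoint X ∈ f ⁻¹ᵁ V from hV) _ 0
      (hv.trans (map_zero _).symm)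
    obtain ⟨V', hV', hle⟩ := exists_preimage_subset f hW
    rw [← TopCat.Presheaf.germ_res_apply ((Coh.push f).obj M).presheaf
      (homOfLE (inf_le_left : V ⊓ V' ≤ V)) _ ⟨hV, hV'⟩ m]
    have h2 : M.presheaf.map ((Opens.map f.base).map (homOfLE (inf_le_left : V ⊓ V' ≤ V))).op m = 0 := by
      have hfac : ((Opens.map f.base).map (homOfLE (inf_le_left : V ⊓ V' ≤ V))) =
          homOfLE (fun z (hz : z ∈ f ⁻¹ᵁ (V ⊓ V')) => hle hz.2) ≫ i := Subsingleton.elim _ _
      rw [hfac, op_comp, Functor.map_comp]
      exact (ConcreteCategory.comp_apply _ _ _).trans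
        ((congrArg _ (h.trans (map_zero _))).trans (map_zero _))
    exact (congrArg _ h2).trans (map_zero _)
  · obtain ⟨W, hW, m, rfl⟩ := TopCat.Presheaf.exists_germ_eq M.presheaf v
    obtain ⟨V, hV, hle⟩ := exists_preimage_subset f hW
    exact ⟨((Coh.push f).obj M).presheaf.germ V _ hV (M.presheaf.map (homOfLE hle).op m),
      (Cyc.SheafLen.pushStalk_germ f M _ hV _).trans
        (TopCat.Presheaf.germ_res_apply M.presheaf (homOfLE hle) _ hV m)⟩

/-- The comparison as a semilinear map. -/
noncomputable def P (M : X.Modules) :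
    ((Coh.push f).obj M).presheaf.stalk (f (genericPoint X)) →ₛₗ[(f.stalkMap (genericPoint X)).hom]
      M.presheaf.stalk (genericPoint X) where
  toFun := Cyc.SheafLen.pushStalk f M (genericPoint X)
  map_add' := map_add _
  map_smul' := Cyc.SheafLen.pushStalk_smul f M (genericPoint X)

theorem isField_stalk : IsField (Y.presheaf.stalk (f (genericPoint X))) := by
  rw [map_genericPoint]
  exact Field.toIsField Y.functionField

/-- Free modules map to direct images isomorphically at the generic point. -/
theorem exists_free_to_push [IsNoetherian X] :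
    ∃ (r : ℕ) (M : X.Modules) (α : FlatMod.freeMod Y r ⟶ (Coh.push f).obj M),
      0 < r ∧ Coh.IsCoh M ∧ Function.Bijective (stalkMapₗ α (f (genericPoint X))) := by
  classical
  haveI : (Coh.structureModule X).IsQuasicoherent := TensorMod.QCohInv.isQCoh_structureModule X
  have hO : Coh.IsCoh (Coh.structureModule X) :=
    CohBasics.Closure.isCoh_of_finite_sections fun U _ => (inferInstance : Module.Finite Γ(X, U) Γ(X, U))
  let N := ((Coh.push f).obj (Coh.structureModule X)).presheaf.stalk (f (genericPoint X))
  haveI := (FinPush.isCoh_push f hO).2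
  haveI : Module.Finite (Y.presheaf.stalk (f (genericPoint X))) N :=
    Modules.GenStalk.finite_stalk ((Coh.push f).obj (Coh.structureModule X)) (f (genericPoint X))
  haveI : Nontrivial N := FinPush.nontrivial_stalk f
  letI : Field (Y.presheaf.stalk (f (genericPoint X))) := (isField_stalk f).toField
  let r := Module.finrank (Y.presheaf.stalk (f (genericPoint X))) N
  let b : Module.Basis (Fin r) (Y.presheaf.stalk (f (genericPoint X))) N := Module.finBasis _ N
  let L := X.presheaf.stalk (genericPoint X)
  let uL : (Coh.structureModule X).presheaf.stalk (genericPoint X) →ₗ[L] L :=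
    { toFun := Modules.FreeStalk.unitStalkToRing (genericPoint X)
      map_add' := map_add _
      map_smul' := Modules.FreeStalk.unitStalkToRing_smul (genericPoint X) }
  obtain ⟨eU⟩ := Cyc.SheafLen.exists_unit_stalk_equiv (genericPoint X)
  let S := Devissage.Sky.sky (genericPoint X) L
  haveI : S.IsQuasicoherent := Devissage.Sky.isQCoh_sky (genericPoint X) L fun a ha l => by
    refine ⟨1, ?_⟩
    letI : Field (X.presheaf.stalk (genericPoint X)) := (Field.toIsField X.functionField).toField
    rw [show a = 0 by by_contra h; exact ha (isUnit_iff_ne_zero.mpr h), pow_one, zero_smul]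
  let e : Fin r → L := fun k => uL (P f (Coh.structureModule X) (b k))
  let s : Fin r → Γ(S, ⊤) := fun k => (fun _ => e k : Devissage.Sky.Sec (genericPoint X) L ⊤)
  let ψ : FlatMod.freeMod X r ⟶ S := Modules.Free.freeHom s
  haveI hfq : (FlatMod.freeMod X r).IsQuasicoherent :=
    QCoh.Closure.isQCoh_of_isColimit (colimit.isColimit _) fun _ => hO.1
  have hfc : Coh.IsCoh (FlatMod.freeMod X r) := by
    haveI : HasFiniteBiproducts X.Modules := HasFiniteBiproducts.of_hasFiniteProducts
    exact CohBasics.Closure.isCoh_of_iso (biproduct.isoCoproduct _)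
      (DevExt.isCoh_biproduct (fun _ : Fin r => Coh.structureModule X) fun _ => hO)
  let M := Abelian.image ψ
  have hM : Coh.IsCoh M := by
    haveI := QCoh.Closure.isQCoh_cokernel ψ
    haveI : M.IsQuasicoherent := QCoh.Closure.isQCoh_kernel (cokernel.π ψ)
    exact CohBasics.Closure.isCoh_of_epi (Abelian.factorThruImage ψ) hfc
  let t : Fin r → Γ((Coh.push f).obj M, ⊤) := fun k =>
    (Abelian.factorThruImage ψ).app ⊤ (Modules.Free.gen X k)
  refine ⟨r, M, Modules.Free.freeHom t, Module.finrank_pos, hM, ?_⟩
  let y := f (genericPoint X)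
  let Φ : (FlatMod.freeMod Y r).presheaf.stalk y →ₛₗ[(f.stalkMap (genericPoint X)).hom] L :=
    ((Devissage.Sky.stalkEquiv (genericPoint X) L).symm.toLinearMap ∘ₗ
      stalkMapₗ (Abelian.image.ι ψ) (genericPoint X)).comp
        ((P f M).comp (stalkMapₗ (Modules.Free.freeHom t) y))
  let Θ : (FlatMod.freeMod Y r).presheaf.stalk y →ₛₗ[(f.stalkMap (genericPoint X)).hom] L :=
    uL.comp ((P f (Coh.structureModule X)).comp
      ((Modules.FreeStalk.stalkBasis Y r y).equiv b (Equiv.refl _)).toLinearMap)
  have hΦΘ : Φ = Θ := by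
    refine (Modules.FreeStalk.stalkBasis Y r y).ext fun k => ?_
    show (Devissage.Sky.stalkEquiv (genericPoint X) L).symm (stalkMapₗ (Abelian.image.ι ψ) _
      (Cyc.SheafLen.pushStalk f M _ (stalkMapₗ (Modules.Free.freeHom t) y _))) =
        uL (P f (Coh.structureModule X) (((Modules.FreeStalk.stalkBasis Y r y).equiv b (Equiv.refl _)) _))
    rw [Module.Basis.equiv_apply, Modules.FreeStalk.stalkBasis_apply, Equiv.refl_apply]
    have h1 : stalkMapₗ (Modules.Free.freeHom t) y
        ((FlatMod.freeMod Y r).presheaf.germ ⊤ y trivial (Modules.Free.gen Y k)) =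
          ((Coh.push f).obj M).presheaf.germ ⊤ y trivial (t k) :=
      (stalkMapₗ_germ _ _ _).trans (congrArg _ (Modules.Free.freeHom_app_gen t k))
    refine (congrArg (fun z => (Devissage.Sky.stalkEquiv (genericPoint X) L).symm
      (stalkMapₗ (Abelian.image.ι ψ) (genericPoint X)
        (Cyc.SheafLen.pushStalk f M (genericPoint X) z))) h1).trans ?_
    rw [LinearEquiv.symm_apply_eq]
    refine (congrArg _ (Cyc.SheafLen.pushStalk_germ f M _ _ _)).trans ?_
    refine (stalkMapₗ_germ (Abelian.image.ι ψ) _ _).trans ?_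
    have hst : (Abelian.image.ι ψ).app ⊤
        ((Abelian.factorThruImage ψ).app ⊤ (Modules.Free.gen X k)) = s k := by
      rw [← ConcreteCategory.comp_apply, ← Scheme.Modules.Hom.comp_app, Abelian.image.fac]
      exact Modules.Free.freeHom_app_gen s k
    exact ((congrArg (S.presheaf.germ ⊤ (genericPoint X) (Opens.mem_top _)) hst).trans
      (Devissage.Sky.stalkEquiv_eq (Opens.mem_top _) (s k)).symm)
  have hu : Function.Bijective uL := by
    refine ⟨(injective_iff_map_eq_zero _).mpr fun v hv => ?_, fun l => ?_⟩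
    · obtain ⟨U, hU, m, rfl⟩ := TopCat.Presheaf.exists_germ_eq (Coh.structureModule X).presheaf v
      change Modules.FreeStalk.unitStalkToRing _ _ = 0 at hv
      replace hv := (Modules.FreeStalk.unitStalkToRing_germ hU m).symm.trans hv
      obtain ⟨W, hW, i, i', hW'⟩ := TopCat.Presheaf.germ_eq X.presheaf _ hU hU _ 0
        (hv.trans (map_zero _).symm)
      exact TopCat.Presheaf.germ_ext (Coh.structureModule X).presheaf W hW i i' hW' |>.trans
        (map_zero ((Coh.structureModule X).presheaf.germ U (genericPoint X) hU).hom)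
    · obtain ⟨U, hU, m, rfl⟩ := TopCat.Presheaf.exists_germ_eq X.presheaf l
      exact ⟨(Coh.structureModule X).presheaf.germ U _ hU m,
        Modules.FreeStalk.unitStalkToRing_germ hU m⟩
  have hΘ : Function.Bijective Θ :=
    hu.comp ((pushStalk_bijective f _).comp (LinearEquiv.bijective _))
  rw [← hΦΘ] at hΘ
  have hι : Function.Injective (fun v : M.presheaf.stalk (genericPoint X) =>
      (Devissage.Sky.stalkEquiv (genericPoint X) L).symm
        (stalkMapₗ (Abelian.image.ι ψ) (genericPoint X) v)) :=
    (LinearEquiv.injective _).comp ((mono_iff_stalkMapₗ_injective _).mp inferInstance _)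
  refine ⟨fun v w h => hΘ.1 ?_, fun v => ?_⟩
  · show (Devissage.Sky.stalkEquiv (genericPoint X) L).symm _ =
      (Devissage.Sky.stalkEquiv (genericPoint X) L).symm _
    exact congrArg (fun z => (Devissage.Sky.stalkEquiv (genericPoint X) L).symm
      (stalkMapₗ (Abelian.image.ι ψ) (genericPoint X) (P f M z))) h
  · obtain ⟨w, hw⟩ := hΘ.2 ((Devissage.Sky.stalkEquiv (genericPoint X) L).symm
      (stalkMapₗ (Abelian.image.ι ψ) (genericPoint X) (P f M v)))
    exact ⟨w, (pushStalk_bijective f M).1 (hι hw)⟩

end Groth.Agent.Lib.CohDelta.IdealMul.FinGen
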