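import Groth.Agent.Lib.CohDelta.IdealMul.FinGen
import Groth.Agent.S9523

/-!
# Direct images mapping to sums of a given module at the generic point
-/

set_option autoImplicit false
set_option linter.style.haveILetI false
universe u

open CategoryTheory CategoryTheory.Limits AlgebraicGeometry Opposite TopologicalSpace

namespace Groth.Agent.Lib.CohDelta.IdealMul.FinGen2

open Groth.Agent.Lib Groth.Agent.Lib.Devissage.Basic Groth.Agent.Lib.Modules.StalkModule
  Groth.Agent.Lib.CohDelta.IdealMul.Main

variable {X Y : Scheme.{u}}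

attribute [local instance] HasFiniteBiproducts.of_hasFiniteProducts

/-- A surjection onto a stalk killed by `m`, bijective, comes from an extension of a morphism
defined on some `I^n`. -/
theorem exists_hom_near [IsNoetherian Y] (y : Y) {A B : Y.Modules} (hA : Coh.IsCoh A)
    (hB : Coh.IsCoh B) (lam : A.presheaf.stalk y →ₗ[Y.presheaf.stalk y] B.presheaf.stalk y)
    (hlam : Function.Bijective lam)
    (hkill : ∀ a : Y.presheaf.stalk y, ¬ IsUnit a → ∀ v : B.presheaf.stalk y, a • v = 0) :
    ∃ (J : Y.IdealSheafData) (ψ : (Dual3.idealMul J).obj A ⟶ B),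
      Function.Bijective (stalkMapₗ ψ y) := by
  obtain ⟨M, α, β, hM, -, hβy, hαβ⟩ := H52.DevSummand.bridge hA hB y lam hlam.2 hkill
  have hαy : Function.Bijective (stalkMapₗ α y) := by
    rw [show ⇑(stalkMapₗ α y) = stalkMapₗ β y ∘ lam from funext hαβ]
    exact hβy.comp hlam
  haveI := hM.1.1
  haveI := hA.1
  haveI := hB.1
  let C : Set Y := (CohB1.support (kernel α) ∪ CohB1.support (cokernel α)) ∪
    (CohB1.support (kernel β) ∪ CohB1.support (cokernel β))
  haveI := (CohBasics.Closure.isCoh_kernel α hA hM.1.1).2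
  haveI := (CohBasics.Closure.isCoh_cokernel α hA.1 hM.1).2
  haveI := (CohBasics.Closure.isCoh_kernel β hB hM.1.1).2
  haveI := (CohBasics.Closure.isCoh_cokernel β hB.1 hM.1).2
  have hC : IsClosed C := ((Modules.Support.isClosed_support _).union
    (Modules.Support.isClosed_support _)).union
    ((Modules.Support.isClosed_support _).union (Modules.Support.isClosed_support _))
  have hyC : y ∉ C := by
    rintro ((h | h) | (h | h))
    exacts [H52.DevSummand.not_mem_support_kernel α hαy.1 h,
      H52.DevSummand.not_mem_support_cokernel α hαy.2 h,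
      H52.DevSummand.not_mem_support_kernel β hβy.1 h,
      H52.DevSummand.not_mem_support_cokernel β hβy.2 h]
  let U : Y.Opens := ⟨Cᶜ, hC.isOpen_compl⟩
  let I := Scheme.IdealSheafData.vanishingIdeal (⟨C, hC⟩ : Closeds Y)
  have hI : (I.support : Set Y) = C := by
    rw [Scheme.IdealSheafData.coe_support_vanishingIdeal]; rfl
  have hU : (U : Set Y) = (I.support : Set Y)ᶜ := by rw [hI]; rfl
  have bij : ∀ {Q : Y.Modules} (f : Q ⟶ M), CohB1.support (kernel f) ⊆ C →
      CohB1.support (cokernel f) ⊆ C → IsIso ((Scheme.Modules.restrictFunctor U.ι).map f) := by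
    intro Q f hk hc
    refine DevExt.isIso_restrict f fun x hx => ?_
    have hk' : Subsingleton ((kernel f).presheaf.stalk x) :=
      Modules.Support.not_mem_support_iff.mp fun h => hx (hk h)
    have hc' : Subsingleton ((cokernel f).presheaf.stalk x) :=
      Modules.Support.not_mem_support_iff.mp fun h => hx (hc h)
    refine ⟨(injective_iff_map_eq_zero _).mpr fun v hv => ?_, fun w => ?_⟩
    · obtain ⟨z, rfl⟩ := H52.DevSummand.eq_stalk_kernel f v hv
      rw [Subsingleton.elim z 0, map_zero]
    · exact (ShortComplex.ab_exact_iff _).mp ((Modules.Stalk.exact_iff_stalk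
        (ShortComplex.mk f (cokernel.π f) (cokernel.condition f))).mp
          (ShortComplex.exact_cokernel f) x) w (@Subsingleton.elim _ hc' _ _)
  haveI := bij α (fun x h => Or.inl (Or.inl h)) (fun x h => Or.inl (Or.inr h))
  haveI := bij β (fun x h => Or.inr (Or.inl h)) (fun x h => Or.inr (Or.inr h))
  let R := Scheme.Modules.restrictFunctor U.ι
  obtain ⟨n, ψ, -, hψ⟩ := DevExt.exists_mono_ext I hA (B := B) hU (R.map α ≫ inv (R.map β))
  exact ⟨I ^ n, ψ, hψ y hyC⟩

/-- Stalks of finite biproducts, linearly. -/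
noncomputable def stalkPi {k : ℕ} (A : Fin k → Y.Modules) (y : Y) :
    (⨁ A).presheaf.stalk y ≃ₗ[Y.presheaf.stalk y] ((i : Fin k) → (A i).presheaf.stalk y) :=
  LinearEquiv.ofBijective (LinearMap.pi fun i => stalkMapₗ (biproduct.π A i) y)
    (DevExt.exists_stalk_biproduct A y)

variable [IsIntegral X] [IsIntegral Y] (f : X ⟶ Y) [IsFinite f] [Surjective f]

theorem exists_push_to_sum [IsNoetherian X] [IsNoetherian Y] (F : Y.Modules) (hF : Coh.IsCoh F) :
    ∃ (r : ℕ) (G : X.Modules) (β : (Scheme.Modules.pushforward f).obj G ⟶ ∐ fun _ : Fin r => F),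
      0 < r ∧ Coh.IsCoh G ∧ Function.Bijective (stalkMapₗ β (f (genericPoint X))) := by
  classical
  haveI : (Coh.structureModule X).IsQuasicoherent := TensorMod.QCohInv.isQCoh_structureModule X
  have hO : Coh.IsCoh (Coh.structureModule X) :=
    CohBasics.Closure.isCoh_of_finite_sections fun U _ => (inferInstance : Module.Finite Γ(X, U) Γ(X, U))
  haveI := (FinPush.isCoh_push f hO).2
  haveI := hF.2
  haveI := Modules.GenStalk.finite_stalk F (f (genericPoint X))
  haveI := Modules.GenStalk.finite_stalk ((Coh.push f).obj (Coh.structureModule X)) (f (genericPoint X))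
  haveI : Nontrivial (((Coh.push f).obj (Coh.structureModule X)).presheaf.stalk (f (genericPoint X))) :=
    FinPush.nontrivial_stalk f
  letI : Field (Y.presheaf.stalk (f (genericPoint X))) := (FinGen.isField_stalk f).toField
  let y := f (genericPoint X)
  let r := Module.finrank (Y.presheaf.stalk y) (((Coh.push f).obj (Coh.structureModule X)).presheaf.stalk y)
  let k := Module.finrank (Y.presheaf.stalk y) (F.presheaf.stalk y)
  let G₀ : X.Modules := ⨁ fun _ : Fin k => Coh.structureModule X
  have hG₀ : Coh.IsCoh G₀ := DevExt.isCoh_biproduct _ fun _ => hO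
  let B : Y.Modules := ∐ fun _ : Fin r => F
  have hB : Coh.IsCoh B :=
    CohBasics.Closure.isCoh_of_iso (biproduct.isoCoproduct _) (DevExt.isCoh_biproduct _ fun _ => hF)
  haveI : PreservesLimitsOfSize.{0, 0} (Scheme.Modules.pushforward f) :=
    (Scheme.Modules.pullbackPushforwardAdjunction f).rightAdjoint_preservesLimits
  haveI : (Scheme.Modules.pushforward f).Additive := Functor.additive_of_preserves_binary_products _
  let c : (Scheme.Modules.pushforward f).obj G₀ ≅
      ⨁ fun _ : Fin k => (Coh.push f).obj (Coh.structureModule X) :=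
    (Scheme.Modules.pushforward f).mapBiproduct fun _ : Fin k => Coh.structureModule X
  let e₁ := (stalkLinearEquiv c y).trans (stalkPi (fun _ : Fin k => (Coh.push f).obj (Coh.structureModule X)) y)
  let e₂ := (stalkLinearEquiv (biproduct.isoCoproduct fun _ : Fin r => F).symm y).trans
    (stalkPi (fun _ : Fin r => F) y)
  haveI : Module.Finite (Y.presheaf.stalk y) (Fin k → ((Coh.push f).obj (Coh.structureModule X)).presheaf.stalk y) :=
    Module.Finite.pi
  haveI : Module.Finite (Y.presheaf.stalk y) (Fin r → F.presheaf.stalk y) := Module.Finite.pi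
  have hdim : Module.finrank (Y.presheaf.stalk y)
      (Fin k → ((Coh.push f).obj (Coh.structureModule X)).presheaf.stalk y) =
        Module.finrank (Y.presheaf.stalk y) (Fin r → F.presheaf.stalk y) := by
    rw [Module.finrank_pi_fintype, Module.finrank_pi_fintype]
    simp only [Finset.sum_const, Finset.card_univ, Fintype.card_fin, smul_eq_mul]
    exact Nat.mul_comm _ _
  let lam := (e₁.trans (LinearEquiv.ofFinrankEq _ _ hdim)).trans e₂.symm
  obtain ⟨J, ψ, hψ⟩ := exists_hom_near y (FinPush.isCoh_push f hG₀) hB lam.toLinearMap lam.bijective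
    (fun a ha v => by
      rw [show a = 0 by by_contra h; exact ha (isUnit_iff_ne_zero.mpr h), zero_smul])
  haveI := hG₀.1
  obtain ⟨e, -⟩ := Groth.Agent.S9523.result f G₀ hG₀.1 J
  refine ⟨r, (Dual3.idealMul (J.comap f)).obj G₀, e.inv ≫ ψ, Module.finrank_pos,
    Sec.isCoh_idealMul _ hG₀, ?_⟩
  rw [stalkMapₗ_comp, LinearMap.coe_comp]
  exact hψ.comp ((isIso_iff_stalkMapₗ_bijective e.inv).mp inferInstance y)

end Groth.Agent.Lib.CohDelta.IdealMul.FinGen2
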